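import Mathlib

set_option autoImplicit false

namespace Cfsg.Agent.Lib.Helper33.Gpn

theorem inv_eq_pow_pred {G : Type*} [Group G] {y : G} {a : ℕ} (ha : 0 < a) (hy : y ^ a = 1) :
    y⁻¹ = y ^ (a - 1) := by
  apply inv_eq_of_mul_eq_one_left
  rw [← pow_succ, Nat.sub_add_cancel ha, hy]

theorem comm_mul {G : Type*} [Group G] {c a u : G} (h1 : c * u = u * c) (h2 : a * u = u * a) :
    (c * a) * u = u * (c * a) := by
  rw [mul_assoc, h2, ← mul_assoc, h1, mul_assoc]

theorem conj_pow_inv {G : Type*} [Group G] (x b : G) (i : ℕ) :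
    (x⁻¹ * b * x) ^ i = x⁻¹ * b ^ i * x := by
  have h := conj_pow (a := x⁻¹) (b := b) (i := i)
  rwa [inv_inv] at h

/-- Elements of the subgroup generated by two commuting elements of finite order. -/
theorem mem_closure_pair {G : Type*} [Group G] {y z : G} (hyz : y * z = z * y) {a b : ℕ}
    (ha : 0 < a) (hb : 0 < b) (hy : y ^ a = 1) (hz : z ^ b = 1) {u : G}
    (hu : u ∈ Subgroup.closure ({y, z} : Set G)) : ∃ i < a, ∃ j < b, u = y ^ i * z ^ j := by
  have hc : Commute y z := hyz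
  have key : ∃ i j : ℕ, u = y ^ i * z ^ j := by
    induction hu using Subgroup.closure_induction with
    | mem g hg =>
      simp only [Set.mem_insert_iff, Set.mem_singleton_iff] at hg
      rcases hg with h | h
      · exact ⟨1, 0, by simp [h]⟩
      · exact ⟨0, 1, by simp [h]⟩
    | one => exact ⟨0, 0, by simp⟩
    | mul g h _ _ ihg ihh =>
      obtain ⟨i, j, rfl⟩ := ihg
      obtain ⟨i', j', rfl⟩ := ihh
      refine ⟨i + i', j + j', ?_⟩
      rw [pow_add, pow_add]
      exact Commute.mul_mul_mul_comm ((hc.pow_pow i' j).symm) _ _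
    | inv g _ ih =>
      obtain ⟨i, j, rfl⟩ := ih
      refine ⟨(a - 1) * i, (b - 1) * j, ?_⟩
      rw [mul_inv_rev, pow_mul, pow_mul, ← inv_eq_pow_pred ha hy, ← inv_eq_pow_pred hb hz,
        inv_pow, inv_pow]
      exact ((hc.pow_pow i j).symm.inv_inv).eq
  obtain ⟨i, j, rfl⟩ := key
  exact ⟨i % a, Nat.mod_lt _ ha, j % b, Nat.mod_lt _ hb,
    by rw [← pow_eq_pow_mod i hy, ← pow_eq_pow_mod j hz]⟩

/-- **R1a**: structure of the rank-two group `G(p,n;s)`. -/
theorem gpn_structA {G : Type*} [Group G] [Finite G] {p : ℕ} [Fact p.Prime] (hp : p ≠ 2) (n : ℕ)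
    (hn : 4 ≤ n) (hG : Nat.card G = p ^ n) (s : ℕ) (x y z : G) (hs : ¬ p ∣ s)
    (hgen : Subgroup.closure ({x, y, z} : Set G) = ⊤) (hx : x ^ p = 1) (hy : y ^ p = 1)
    (hz : z ^ p ^ (n - 2) = 1) (hyz : y * z = z * y)
    (hxy : x⁻¹ * y * x = y * z ^ (s * p ^ (n - 3))) (hxz : x⁻¹ * z * x = y * z) :
    orderOf z = p ^ (n - 2) ∧ x ∉ Subgroup.closure ({y, z} : Set G) ∧
      IsMulCommutative (Subgroup.closure ({y, z} : Set G)) ∧
      (Subgroup.closure ({y, z} : Set G)).index = p ∧
      (∀ B : Subgroup G, IsMulCommutative B → B.index = p →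
        B = Subgroup.closure ({y, z} : Set G)) ∧
      Nat.card (Subgroup.closure ({y, z} : Set G)) = p ^ (n - 1) ∧
      ¬ IsMulCommutative G ∧ IsCyclic (Subgroup.center G) ∧ (Subgroup.center G).index = p ^ 3 := by
  classical
  have hpr : p.Prime := Fact.out
  have hp0 : 0 < p := hpr.pos
  have hp1 : 1 < p := hpr.one_lt
  have hq0 : 0 < p ^ (n - 2) := pow_pos hp0 _
  have hcyz : Commute y z := hyz
  have hyA : y ∈ Subgroup.closure ({y, z} : Set G) := Subgroup.subset_closure (by simp)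
  have hzA : z ∈ Subgroup.closure ({y, z} : Set G) := Subgroup.subset_closure (by simp)
  obtain ⟨A, hAdef⟩ : ∃ A : Subgroup G, A = Subgroup.closure ({y, z} : Set G) := ⟨_, rfl⟩
  rw [← hAdef] at hyA hzA ⊢
  have hmem : ∀ u ∈ A, ∃ i < p, ∃ j < p ^ (n - 2), u = y ^ i * z ^ j := by
    intro u hu; rw [hAdef] at hu
    exact mem_closure_pair hyz hp0 hq0 hy hz hu
  have hAcomm : ∀ u ∈ A, ∀ v ∈ A, u * v = v * u := by
    intro u hu v hv
    obtain ⟨i, -, j, -, rfl⟩ := hmem u hu
    obtain ⟨i', -, j', -, rfl⟩ := hmem v hv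
    exact (Commute.mul_left
      (Commute.mul_right ((Commute.refl y).pow_pow i i') (hcyz.pow_pow i j'))
      (Commute.mul_right ((hcyz.pow_pow i' j).symm) ((Commute.refl z).pow_pow j j'))).eq
  have hconj : ∀ u ∈ A, x⁻¹ * u * x ∈ A := by
    intro u hu
    rw [hAdef] at hu
    induction hu using Subgroup.closure_induction with
    | mem g hg =>
      simp only [Set.mem_insert_iff, Set.mem_singleton_iff] at hg
      rcases hg with h | h
      · rw [h, hxy]; exact A.mul_mem hyA (A.pow_mem hzA _)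
      · rw [h, hxz]; exact A.mul_mem hyA hzA
    | one => simp
    | mul g h _ _ ihg ihh =>
      have e : x⁻¹ * (g * h) * x = (x⁻¹ * g * x) * (x⁻¹ * h * x) := by group
      rw [e]; exact A.mul_mem ihg ihh
    | inv g _ ih =>
      have e : x⁻¹ * g⁻¹ * x = (x⁻¹ * g * x)⁻¹ := by group
      rw [e]; exact A.inv_mem ih
  have hAn : A.Normal := by
    rw [← Subgroup.normalizer_eq_top_iff, eq_top_iff, ← hgen, Subgroup.closure_le]
    intro g hg
    simp only [Set.mem_insert_iff, Set.mem_singleton_iff] at hg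
    have hxinv : x⁻¹ ∈ Subgroup.normalizer (A : Set G) :=
      Subgroup.mem_normalizer_fintype (fun u hu => by simpa using hconj u hu)
    rcases hg with h | h | h
    · rw [h]; simpa using Subgroup.inv_mem _ hxinv
    · rw [h]; exact Subgroup.le_normalizer hyA
    · rw [h]; exact Subgroup.le_normalizer hzA
  have hsup : Subgroup.zpowers x ⊔ A = ⊤ := by
    rw [eq_top_iff, ← hgen, Subgroup.closure_le]
    intro g hg
    simp only [Set.mem_insert_iff, Set.mem_singleton_iff] at hg
    rcases hg with h | h | h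
    · rw [h]; exact Subgroup.mem_sup_left (Subgroup.mem_zpowers x)
    · rw [h]; exact Subgroup.mem_sup_right hyA
    · rw [h]; exact Subgroup.mem_sup_right hzA
  have hidx_dvd : A.index ∣ p := by
    have h1 : A.relIndex (Subgroup.zpowers x ⊔ A) = A.relIndex (Subgroup.zpowers x) :=
      Subgroup.relIndex_sup_right _ _
    rw [hsup, Subgroup.relIndex_top_right] at h1
    rw [h1]
    have h2 : A.relIndex (Subgroup.zpowers x) ∣ Nat.card (Subgroup.zpowers x) :=
      Subgroup.relIndex_dvd_card _ _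
    rw [Nat.card_zpowers] at h2
    exact h2.trans (orderOf_dvd_of_pow_eq_one hx)
  have hy_ord : orderOf y ∣ p := orderOf_dvd_of_pow_eq_one hy
  have hz_ord : orderOf z ∣ p ^ (n - 2) := orderOf_dvd_of_pow_eq_one hz
  have hcardA_le : Nat.card A ≤ orderOf y * orderOf z := by
    have hoy : 0 < orderOf y := orderOf_pos y
    have hoz : 0 < orderOf z := orderOf_pos z
    let f : Fin (orderOf y) × Fin (orderOf z) → A := fun ij =>
      ⟨y ^ (ij.1 : ℕ) * z ^ (ij.2 : ℕ), A.mul_mem (A.pow_mem hyA _) (A.pow_mem hzA _)⟩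
    have hf : Function.Surjective f := by
      rintro ⟨u, hu⟩
      rw [hAdef] at hu
      obtain ⟨i, hi, j, hj, rfl⟩ :=
        mem_closure_pair hyz hoy hoz (pow_orderOf_eq_one y) (pow_orderOf_eq_one z) hu
      exact ⟨(⟨i, hi⟩, ⟨j, hj⟩), rfl⟩
    have h1 := Nat.card_le_card_of_surjective f hf
    simpa using h1
  have hcard_mul : Nat.card A * A.index = p ^ n := by rw [Subgroup.card_mul_index, hG]
  have hn1 : p ^ n = p ^ (n - 1) * p := by rw [← pow_succ]; congr 1; omega
  have hn2 : p ^ (n - 1) = p * p ^ (n - 2) := by rw [← pow_succ']; congr 1; omega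
  have hoy_le : orderOf y ≤ p := Nat.le_of_dvd hp0 hy_ord
  have hoz_le : orderOf z ≤ p ^ (n - 2) := Nat.le_of_dvd hq0 hz_ord
  have hA_le : Nat.card A ≤ p ^ (n - 1) := by
    rw [hn2]; exact hcardA_le.trans (Nat.mul_le_mul hoy_le hoz_le)
  have hlt1 : p ^ (n - 1) < p ^ n := Nat.pow_lt_pow_right hp1 (by omega)
  have hlt2 : p ^ (n - 2) < p ^ (n - 1) := Nat.pow_lt_pow_right hp1 (by omega)
  have hidx : A.index = p := by
    rcases (Nat.dvd_prime hpr).1 hidx_dvd with h | h
    · exfalso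
      rw [h, mul_one] at hcard_mul
      omega
    · exact h
  have hcardA : Nat.card A = p ^ (n - 1) := by
    rw [hidx, hn1] at hcard_mul
    exact Nat.eq_of_mul_eq_mul_right hp0 hcard_mul
  have hoy : orderOf y = p := by
    rcases (Nat.dvd_prime hpr).1 hy_ord with h | h
    · exfalso
      rw [h, one_mul] at hcardA_le
      omega
    · exact h
  have hoz : orderOf z = p ^ (n - 2) := by
    apply Nat.le_antisymm hoz_le
    rw [hcardA, hoy, hn2] at hcardA_le
    exact Nat.le_of_mul_le_mul_left hcardA_le hp0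
  have hxA : x ∉ A := by
    intro hxA
    have htop : A = ⊤ := by
      rw [eq_top_iff, ← hgen, Subgroup.closure_le]
      intro g hg
      simp only [Set.mem_insert_iff, Set.mem_singleton_iff] at hg
      rcases hg with h | h | h <;> rw [h] <;> assumption
    rw [htop, Subgroup.index_top] at hidx
    omega
  have huniq : ∀ i j : ℕ, y ^ i * z ^ j = 1 → p ∣ i ∧ p ^ (n - 2) ∣ j := by
    let _ : Fintype A := Fintype.ofFinite A
    let f : Fin p × Fin (p ^ (n - 2)) → A := fun ij =>
      ⟨y ^ (ij.1 : ℕ) * z ^ (ij.2 : ℕ), A.mul_mem (A.pow_mem hyA _) (A.pow_mem hzA _)⟩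
    have hf : Function.Surjective f := by
      rintro ⟨u, hu⟩
      obtain ⟨i, hi, j, hj, rfl⟩ := hmem u hu
      exact ⟨(⟨i, hi⟩, ⟨j, hj⟩), rfl⟩
    have hcard : Fintype.card (Fin p × Fin (p ^ (n - 2))) = Fintype.card A := by
      rw [Fintype.card_prod, Fintype.card_fin, Fintype.card_fin, ← Nat.card_eq_fintype_card,
        hcardA, hn2]
    have hfinj : Function.Injective f :=
      ((Fintype.bijective_iff_surjective_and_card f).2 ⟨hf, hcard⟩).1
    intro i j hij
    have h1 : f (⟨i % p, Nat.mod_lt _ hp0⟩, ⟨j % p ^ (n - 2), Nat.mod_lt _ hq0⟩)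
        = f (⟨0, hp0⟩, ⟨0, hq0⟩) := by
      apply Subtype.ext
      show y ^ (i % p) * z ^ (j % p ^ (n - 2)) = y ^ 0 * z ^ 0
      rw [← pow_eq_pow_mod i hy, ← pow_eq_pow_mod j hz, hij]; simp
    have h2 := hfinj h1
    simp only [Prod.mk.injEq, Fin.mk.injEq] at h2
    exact ⟨Nat.dvd_of_mod_eq_zero h2.1, Nat.dvd_of_mod_eq_zero h2.2⟩
  have hy1 : y ≠ 1 := by
    intro h; rw [h, orderOf_one] at hoy; omega
  have hxz_ne : z * x ≠ x * z := by
    intro h
    have h1 : x⁻¹ * z * x = z := by rw [mul_assoc, h, inv_mul_cancel_left]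
    rw [hxz] at h1
    exact hy1 (mul_eq_right.mp h1)
  have hnc : ¬ IsMulCommutative G := fun h => hxz_ne (h.is_comm.comm z x)
  have hdecomp : ∀ c : G, c ∉ A → ∀ g : G, ∃ k : ℕ, (c ^ k)⁻¹ * g ∈ A := by
    intro c hc g
    have _ := hAn
    have hcardQ : Nat.card (G ⧸ A) = p := by rw [← Subgroup.index_eq_card]; exact hidx
    have hne : (QuotientGroup.mk c : G ⧸ A) ≠ 1 := by
      rw [Ne, QuotientGroup.eq_one_iff]; exact hc
    have htop := zpowers_eq_top_of_prime_card hcardQ hne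
    have hg : (QuotientGroup.mk g : G ⧸ A) ∈ Subgroup.zpowers (QuotientGroup.mk c : G ⧸ A) := by
      rw [htop]; trivial
    rw [← mem_powers_iff_mem_zpowers] at hg
    obtain ⟨k, hk⟩ := hg
    refine ⟨k, ?_⟩
    rw [← QuotientGroup.eq_one_iff (N := A), QuotientGroup.mk_mul, QuotientGroup.mk_inv,
      QuotientGroup.mk_pow]
    rw [← hk]; simp
  have hcenA : ∀ c ∈ Subgroup.center G, c ∈ A := by
    intro c hc
    by_contra hcA
    apply hxz_ne
    obtain ⟨k, hk⟩ := hdecomp c hcA x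
    have hck : c ^ k ∈ Subgroup.center G := Subgroup.pow_mem _ hc k
    have h1 : c ^ k * z = z * c ^ k := (Subgroup.mem_center_iff.1 hck z).symm
    have h2 : ((c ^ k)⁻¹ * x) * z = z * ((c ^ k)⁻¹ * x) := hAcomm _ hk z hzA
    have h3 := comm_mul h1 h2
    rw [mul_inv_cancel_left] at h3
    exact h3.symm
  have hsig : ∀ i j : ℕ,
      x⁻¹ * (y ^ i * z ^ j) * x = y ^ (i + j) * z ^ (s * p ^ (n - 3) * i + j) := by
    intro i j
    have e1 : x⁻¹ * (y ^ i * z ^ j) * x = (x⁻¹ * y * x) ^ i * (x⁻¹ * z * x) ^ j := by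
      rw [conj_pow_inv, conj_pow_inv]; simp only [mul_assoc, mul_inv_cancel_left]
    rw [e1, hxy, hxz, (hcyz.pow_right _).mul_pow, hcyz.mul_pow, pow_add, pow_add, ← pow_mul]
    exact Commute.mul_mul_mul_comm (((hcyz.pow_pow j (s * p ^ (n - 3) * i))).symm) _ _
  have hcen_of : ∀ u ∈ A, x * u = u * x → u ∈ Subgroup.center G := by
    intro u hu hux
    rw [Subgroup.mem_center_iff]
    intro g
    obtain ⟨k, hk⟩ := hdecomp x hxA g
    have h1 : x ^ k * u = u * x ^ k := (Commute.pow_left (show Commute x u from hux) k).eq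
    have h2 : ((x ^ k)⁻¹ * g) * u = u * ((x ^ k)⁻¹ * g) := hAcomm _ hk u hu
    have h3 := comm_mul h1 h2
    rw [mul_inv_cancel_left] at h3
    exact h3
  have hzp_cen : z ^ p ∈ Subgroup.center G := by
    apply hcen_of _ (A.pow_mem hzA _)
    have h1 := hsig 0 p
    simp only [pow_zero, one_mul, zero_add, mul_zero] at h1
    rw [hy, one_mul] at h1
    calc x * z ^ p = x * (x⁻¹ * z ^ p * x) := by rw [h1]
      _ = z ^ p * x := by simp only [mul_assoc, mul_inv_cancel_left]
  have hcen_eq : Subgroup.center G = Subgroup.zpowers (z ^ p) := by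
    apply le_antisymm
    · intro c hc
      obtain ⟨i, hi, j, hj, rfl⟩ := hmem c (hcenA c hc)
      have h1 : x⁻¹ * (y ^ i * z ^ j) * x = y ^ i * z ^ j := by
        have h0 := Subgroup.mem_center_iff.1 hc x
        rw [mul_assoc, ← h0, inv_mul_cancel_left]
      rw [hsig] at h1
      have h2 : y ^ j * z ^ (s * p ^ (n - 3) * i) = 1 := by
        rw [pow_add, pow_add] at h1
        have h3 : y ^ i * (y ^ j * z ^ (s * p ^ (n - 3) * i)) * z ^ j = y ^ i * 1 * z ^ j := by
          rw [mul_one, ← h1]; simp only [mul_assoc]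
        exact mul_left_cancel (mul_right_cancel h3)
      obtain ⟨hpj, hpi⟩ := huniq _ _ h2
      have hpi' : p ∣ i := by
        have e : p ^ (n - 2) = p ^ (n - 3) * p := by rw [← pow_succ]; congr 1; omega
        rw [e, mul_comm s, mul_assoc] at hpi
        have h4 := Nat.dvd_of_mul_dvd_mul_left (pow_pos hp0 _) hpi
        exact (hpr.dvd_mul.1 h4).resolve_left hs
      have hi0 : i = 0 := Nat.eq_zero_of_dvd_of_lt hpi' hi
      obtain ⟨c', rfl⟩ := hpj
      rw [hi0, pow_zero, one_mul, pow_mul]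
      exact Subgroup.pow_mem _ (Subgroup.mem_zpowers _) _
    · rw [Subgroup.zpowers_le]
      exact hzp_cen
  have hindex : (Subgroup.center G).index = p ^ 3 := by
    have h1 : Nat.card (Subgroup.center G) = p ^ (n - 3) := by
      rw [hcen_eq, Nat.card_zpowers, orderOf_pow' _ hpr.ne_zero, hoz]
      have e : p ^ (n - 2) = p ^ (n - 3) * p := by rw [← pow_succ]; congr 1; omega
      have hg : Nat.gcd (p ^ (n - 2)) p = p := Nat.gcd_eq_right (by rw [e]; exact dvd_mul_left _ _)
      rw [hg, e, Nat.mul_div_cancel _ hp0]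
    have h2 := Subgroup.card_mul_index (Subgroup.center G)
    rw [h1, hG] at h2
    have e3 : p ^ n = p ^ (n - 3) * p ^ 3 := by rw [← pow_add]; congr 1; omega
    rw [e3] at h2
    exact Nat.eq_of_mul_eq_mul_left (pow_pos hp0 _) h2
  refine ⟨hoz, hxA, ⟨⟨fun u v => Subtype.ext (hAcomm u u.2 v v.2)⟩⟩, hidx, ?_, hcardA, hnc, ?_,
    hindex⟩
  · intro B hBc hBi
    by_contra hBA
    have hBnle : ¬ B ≤ A := by
      intro hle
      apply hBA
      apply Subgroup.eq_of_le_of_card_ge hle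
      have h1 := Subgroup.card_mul_index B
      rw [hBi, hG, hn1] at h1
      have h2 : Nat.card B = p ^ (n - 1) := Nat.eq_of_mul_eq_mul_right hp0 h1
      rw [h2, hcardA]
    obtain ⟨b, hbB, hbA⟩ := SetLike.not_le_iff_exists.1 hBnle
    have hle : A ⊓ B ≤ Subgroup.center G := by
      intro u hu
      rw [Subgroup.mem_center_iff]
      intro g
      obtain ⟨k, hk⟩ := hdecomp b hbA g
      have h1 : b ^ k * u = u * b ^ k := by
        have h0 := hBc.is_comm.comm ⟨b ^ k, B.pow_mem hbB k⟩ ⟨u, hu.2⟩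
        exact congrArg Subtype.val h0
      have h2 : ((b ^ k)⁻¹ * g) * u = u * ((b ^ k)⁻¹ * g) := hAcomm _ hk u hu.1
      have h3 := comm_mul h1 h2
      rw [mul_inv_cancel_left] at h3
      exact h3
    have h3 : (A ⊓ B).index ≤ p * p := by
      have h0 := Subgroup.index_inf_le (H := A) (K := B)
      rwa [hidx, hBi] at h0
    have h4 : (Subgroup.center G).index ∣ (A ⊓ B).index := Subgroup.index_dvd_of_le hle
    have h5 : (A ⊓ B).index ≠ 0 := Subgroup.index_ne_zero_of_finite
    have h6 := Nat.le_of_dvd (Nat.pos_of_ne_zero h5) h4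
    rw [hindex] at h6
    have h7 : p * p < p ^ 3 := by
      have : p ^ 3 = p * p * p := by ring
      rw [this]
      exact lt_mul_of_one_lt_right (Nat.mul_pos hp0 hp0) hp1
    omega
  · rw [hcen_eq]; infer_instance

end Cfsg.Agent.Lib.Helper33.Gpn
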