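import Mathlib
import Cfsg.Agent.Lib.Helper55.S53Stmt
import Cfsg.Agent.Lib.Helper9.Narrow5

/-!
# S1353 / VAB (helper33): an `r'`-subgroup `V` of `N_G(S)`, `S` a narrow Sylow `r`-subgroup,
has `V' ≤ C_G(S)`.
-/

set_option autoImplicit false

namespace Cfsg.Agent.Lib.Helper33.S53VAB

open scoped commutatorElement

universe u

theorem main : Cfsg.Agent.Lib.Helper55.S53Stmt.VAb.{u} := by
  intro G _ _ r S V hr hodd hnar hsolv hVN hcop v hv w hw
  haveI : Fact r.Prime := ⟨hr⟩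
  have hVodd : Odd (Nat.card V) := Odd.of_dvd_nat hodd (Subgroup.card_subgroup_dvd_card V)
  by_cases h2 : r = 2
  · have hS : (S : Subgroup G) = ⊥ := by
      rw [← Subgroup.card_eq_one]
      obtain ⟨n, hn⟩ := IsPGroup.iff_card.mp S.isPGroup'
      have h1 : Nat.card (S : Subgroup G) ∣ Nat.card G := Subgroup.card_subgroup_dvd_card _
      have h3 : Odd (Nat.card (S : Subgroup G)) := Odd.of_dvd_nat hodd h1
      rw [hn, h2] at h3
      rw [hn, h2]
      rcases Nat.eq_zero_or_pos n with h0 | h0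
      · rw [h0, pow_zero]
      · exfalso
        rw [Nat.odd_pow_iff (by omega)] at h3
        exact absurd h3 (by decide)
    rw [hS, Subgroup.mem_centralizer_iff]
    intro g hg
    have hg1 : g = 1 := (Subgroup.mem_bot).mp hg
    rw [hg1, one_mul, mul_one]
  · have hx : v * w * v⁻¹ * w⁻¹ ∈ ⁅V, V⁆ := Subgroup.commutator_mem_commutator hv hw
    have hxV : v * w * v⁻¹ * w⁻¹ ∈ V :=
      V.mul_mem (V.mul_mem (V.mul_mem hv hw) (V.inv_mem hv)) (V.inv_mem hw)
    have hcopx : (orderOf (v * w * v⁻¹ * w⁻¹)).Coprime r :=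
      Nat.Coprime.coprime_dvd_left (Subgroup.orderOf_dvd_natCard V hxV) hcop
    by_cases hrk : Cfsg.PRankLE r 2 ↥(S : Subgroup G)
    · exact Cfsg.Agent.Lib.Helper9.Rank2Aut.conj_derived r h2 (S : Subgroup G) V S.isPGroup' hrk
        hVN hsolv hVodd _ hx hcopx
    · obtain ⟨s, hsp, hT⟩ := Cfsg.Agent.Lib.Helper9.Narrow5.data_of_narrow hnar hrk
      exact (Cfsg.Agent.Lib.Helper9.Narrow2.narrow_conj h2 (S : Subgroup G) V S.isPGroup' hrk s
        hsp hT hVN).1 _ hx hcopx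

end Cfsg.Agent.Lib.Helper33.S53VAB
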