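import Mathlib
import Cfsg.Agent.Lib.Helper10.SWDefs

/-!
# Piece C3 of S3685 (Sims–Wong): an element of order `3` centralizes `Qs H` ⟹ `H ≅ D₁₂`
-/

set_option autoImplicit false

namespace Cfsg.Agent.Lib.Helper33.SWC3

open Pointwise
open Cfsg.Agent.Lib.Helper10.SWDefs

universe u

section

variable {G : Type u} [Group G]

/-- The subgroup of the elements normalizing `D`. -/
def NrmSub (D : Subgroup G) : Subgroup G :=
  (MulAction.stabilizer (MulAut G) D).comap MulAut.conj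

theorem mem_NrmSub {D : Subgroup G} {g : G} : g ∈ NrmSub D ↔ MulAut.conj g • D = D := by
  unfold NrmSub
  rw [Subgroup.mem_comap, MulAction.mem_stabilizer_iff]

theorem conj_smul_eq_of_commute {D : Subgroup G} {d : G} (hc : ∀ q ∈ D, d * q = q * d) :
    MulAut.conj d • D = D := by
  ext x
  rw [mem_conj_smul]
  constructor
  · intro h
    have h1 := hc _ h
    have h2 : x = d⁻¹ * x * d := by
      have h3 : d * (d⁻¹ * x * d) = x * d := by group
      rw [h3] at h1
      exact mul_right_cancel h1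
    rw [h2]
    exact h
  · intro h
    have h1 := hc _ h
    have h2 : d⁻¹ * x * d = x := by
      rw [mul_assoc, ← h1]
      group
    rw [h2]
    exact h

theorem le_of_index_three {L K P : Subgroup G} (hLK : L ≤ K) (hKP : K ≤ P)
    (h3 : L.relIndex P = 3) {d : G} (hdK : d ∈ K) (hdL : d ∉ L) : P ≤ K := by
  have h1 := Subgroup.relIndex_mul_relIndex L K P hLK hKP
  rw [h3] at h1
  have h2 : L.relIndex K ≠ 1 := by
    intro h
    exact hdL (Subgroup.relIndex_eq_one.mp h hdK)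
  have h4 : L.relIndex K ∣ 3 := Dvd.intro _ h1
  have h5 : L.relIndex K = 3 := by
    rcases (Nat.dvd_prime Nat.prime_three).mp h4 with h | h
    · exact absurd h h2
    · exact h
  rw [h5] at h1
  have h6 : K.relIndex P = 1 := by omega
  exact Subgroup.relIndex_eq_one.mp h6

theorem not_mem_two_group {L : Subgroup G} (hL : IsPGroup 2 L) {d : G} (hd : orderOf d = 3) :
    d ∉ L := by
  intro hdL
  obtain ⟨k, hk⟩ := hL ⟨d, hdL⟩
  have h1 : d ^ 2 ^ k = 1 := by simpa using congrArg Subtype.val hk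
  have h2 := orderOf_dvd_of_pow_eq_one h1
  rw [hd] at h2
  have h3 := Nat.Prime.dvd_of_dvd_pow Nat.prime_three h2
  omega

/-- `Qs P ⊓ Qs P'` is normalized by `P` when an element of order `3` of `P` centralizes `Qs P`. -/
theorem nrm_inf {H : Subgroup G} (hB : Base H) {P P' : Subgroup G} (hP : IsPt H P)
    (hP' : IsPt H P') (hadj : Adj P P') {d : G} (hdP : d ∈ P) (hd3 : orderOf d = 3)
    (hdc : ∀ q ∈ Qs P, d * q = q * d) : P ≤ NrmSub (Qs P ⊓ Qs P') := by
  have hL := hB.adj_line P P' hP hP' hadj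
  have h1 : P ⊓ P' ≤ NrmSub (Qs P ⊓ Qs P') ⊓ P := by
    intro p hp
    refine Subgroup.mem_inf.mpr ⟨mem_NrmSub.mpr ?_, hp.1⟩
    rw [Subgroup.smul_inf, hB.q_nrm P hP p hp.1, hB.q_nrm P' hP' p hp.2]
  have h2 : d ∈ NrmSub (Qs P ⊓ Qs P') ⊓ P := by
    refine Subgroup.mem_inf.mpr ⟨mem_NrmSub.mpr ?_, hdP⟩
    exact conj_smul_eq_of_commute (fun q hq => hdc q hq.1)
  have h3 : d ∉ P ⊓ P' := not_mem_two_group (hB.line_two P _ hP hL) hd3
  exact (le_of_index_three h1 inf_le_right hL.2 h2 h3).trans inf_le_left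

theorem card_two_elim {A : Subgroup G} (hA : Nat.card A = 2) :
    ∃ z ∈ A, z ≠ 1 ∧ z * z = 1 ∧ ∀ x ∈ A, x = 1 ∨ x = z := by
  obtain ⟨z, hz1, hzu⟩ := (Nat.card_eq_two_iff' (1 : ↥A)).mp hA
  have hz1' : (z : G) ≠ 1 := fun h => hz1 (Subtype.ext h)
  have hall : ∀ x ∈ A, x = 1 ∨ x = (z : G) := by
    intro x hx
    by_cases hx1 : x = 1
    · exact Or.inl hx1
    · right
      have := hzu ⟨x, hx⟩ (fun h => hx1 (congrArg Subtype.val h))
      exact congrArg Subtype.val this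
  refine ⟨z, z.2, hz1', ?_, hall⟩
  rcases hall _ (A.mul_mem z.2 z.2) with h | h
  · exact h
  · exfalso
    apply hz1'
    have : (z : G) * z = z * 1 := by rw [mul_one]; exact h
    exact mul_left_cancel this

end

theorem main : Cfsg.Agent.Lib.Helper10.SWDefs.StC3.{u} := by
  intro hISO G _ _ H hB hQ hex
  obtain ⟨d, hdH, hd3, hdc⟩ := hex
  have hH := isPt_self H
  obtain ⟨P', hP', hadj⟩ := hB.ex_adj H hH
  have hadj' := hB.adj_symm H P' hH hP' hadj
  have hL := hB.adj_line H P' hH hP' hadj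
  have hL' := hB.adj_line P' H hP' hH hadj'
  rw [inf_comm] at hL'
  -- the element of order 3 of `P'`
  obtain ⟨g, hg⟩ := hP'
  have hP'' : IsPt H P' := ⟨g, hg⟩
  have hd'P : g * d * g⁻¹ ∈ P' := by rw [hg]; exact conj_mem_conj_smul hdH
  have hd'3 : orderOf (g * d * g⁻¹) = 3 := by
    have := orderOf_injective (MulAut.conj g).toMonoidHom (MulAut.conj g).injective d
    simp only [MulEquiv.coe_toMonoidHom, MulAut.conj_apply] at this
    rw [this, hd3]
  have hd'c : ∀ q ∈ Qs P', (g * d * g⁻¹) * q = q * (g * d * g⁻¹) := by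
    intro q hq
    rw [hg, Qs_conj, mem_conj_smul] at hq
    have h1 := hdc _ hq
    calc g * d * g⁻¹ * q = g * (d * (g⁻¹ * q * g)) * g⁻¹ := by group
      _ = g * ((g⁻¹ * q * g) * d) * g⁻¹ := by rw [h1]
      _ = q * (g * d * g⁻¹) := by group
  -- `D = Qs H ⊓ Qs P'` is normal, hence trivial
  have hN1 : H ≤ NrmSub (Qs H ⊓ Qs P') := nrm_inf hB hH hP'' hadj hdH hd3 hdc
  have hN2 : P' ≤ NrmSub (Qs H ⊓ Qs P') := by
    have := nrm_inf hB hP'' hH hadj' hd'P hd'3 hd'c
    rwa [inf_comm] at this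
  have hN : NrmSub (Qs H ⊓ Qs P') = ⊤ := by
    rw [eq_top_iff, ← hB.gen H P' hH hP'' hadj.1]
    exact sup_le hN1 hN2
  have hQH : Qs H ≤ H ⊓ P' := Qs_le_line hL
  have hQP : Qs P' ≤ H ⊓ P' := Qs_le_line hL'
  have hDnormal : (Qs H ⊓ Qs P').Normal := by
    refine ⟨fun n hn x => ?_⟩
    have hx : x ∈ NrmSub (Qs H ⊓ Qs P') := by rw [hN]; exact Subgroup.mem_top x
    rw [mem_NrmSub] at hx
    rw [← hx]
    exact conj_mem_conj_smul hn
  have hD : Qs H ⊓ Qs P' = ⊥ :=
    hB.core H _ hH (inf_le_left.trans (hQH.trans inf_le_left)) hDnormal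
  -- cardinalities
  have hiA := hB.q_index H _ hH hL
  have hiB := hB.q_index P' _ hP'' hL'
  have c1 := Subgroup.relIndex_mul_relIndex ⊥ (H ⊓ P') H bot_le inf_le_left
  have c2 := Subgroup.relIndex_mul_relIndex ⊥ (Qs H) (H ⊓ P') bot_le hQH
  have c3 := Subgroup.relIndex_mul_relIndex ⊥ (Qs P') (H ⊓ P') bot_le hQP
  rw [Subgroup.relIndex_bot_left, Subgroup.relIndex_bot_left] at c1 c2 c3
  rw [hL.2] at c1
  rw [hiA] at c2
  rw [hiB] at c3
  have c4 : Nat.card (Qs P') ≤ 2 := by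
    have h1 : (Qs H ⊓ Qs P').relIndex (Qs P') = (Qs H).relIndex (Qs P') :=
      Subgroup.inf_relIndex_right _ _
    rw [hD, Subgroup.relIndex_bot_left] at h1
    rw [h1, ← hiA]
    exact Subgroup.relIndex_le_of_le_right hQP (by rw [hiA]; norm_num)
  have c5 : Nat.card (Qs P') ≠ 1 := by
    intro h
    have hA1 : Nat.card (Qs H) = 1 := by omega
    rw [Subgroup.card_eq_one] at h hA1
    exact hQ H P' hH hP'' hadj (hA1.trans h.symm)
  have c6 : 0 < Nat.card (Qs P') := Nat.card_pos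
  have cB : Nat.card (Qs P') = 2 := by omega
  have cA : Nat.card (Qs H) = 2 := by omega
  have cH : Nat.card H = 12 := by omega
  -- the elements
  obtain ⟨z, hzA, hz1, hz2, hzall⟩ := card_two_elim cA
  obtain ⟨w, hwB, hw1, hw2, hwall⟩ := card_two_elim cB
  have hwA : w ∉ Qs H := by
    intro h
    have : w ∈ Qs H ⊓ Qs P' := ⟨h, hwB⟩
    rw [hD, Subgroup.mem_bot] at this
    exact hw1 this
  have hwL : w ∈ H ⊓ P' := hQP hwB
  have hwH : w ∈ H := hwL.1
  have hzH : z ∈ H := (hQH hzA).1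
  have hwz : w * z * w⁻¹ = z := by
    have h1 : w * z * w⁻¹ ∈ MulAut.conj w • Qs H := conj_mem_conj_smul hzA
    rw [hB.q_nrm H hH w hwH] at h1
    rcases hzall _ h1 with h | h
    · exfalso
      apply hz1
      have : z = w⁻¹ * (w * z * w⁻¹) * w := by group
      rw [this, h]
      group
    · exact h
  have hdz : d * z = z * d := hdc z hzA
  have hd3' : d ^ 3 = 1 := by rw [← hd3]; exact pow_orderOf_eq_one d
  have hinv := hB.inv3 H _ hH hL w hwL hwA d hdH hd3
  have hwd : w * d * w⁻¹ = d⁻¹ := by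
    rcases hzall _ hinv with h | h
    · exact eq_inv_of_mul_eq_one_left h
    · exfalso
      have h1 : w * d * w⁻¹ = z * d⁻¹ := by
        rw [← h]
        group
      have h2 : (w * d * w⁻¹) ^ 3 = 1 := by
        rw [conj_pow, hd3']
        group
      have hcomm : Commute z d⁻¹ := (Commute.inv_right (show Commute z d from hdz.symm))
      have h3 : (z * d⁻¹) ^ 3 = z := by
        rw [hcomm.mul_pow, inv_pow, hd3', inv_one, mul_one, pow_succ, pow_two, hz2, one_mul]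
      rw [h1, h3] at h2
      exact hz1 h2
  have hoz : orderOf z = 2 := orderOf_eq_prime (by rw [pow_two]; exact hz2) hz1
  have hor : orderOf (z * d) = 6 := by
    have hcomm : Commute z d := hdz.symm
    rw [hcomm.orderOf_mul_eq_mul_orderOf_of_coprime (by rw [hoz, hd3]; norm_num), hoz, hd3]
  have hconj : w * (z * d) * w⁻¹ = (z * d)⁻¹ := by
    calc w * (z * d) * w⁻¹ = (w * z * w⁻¹) * (w * d * w⁻¹) := by group
      _ = z * d⁻¹ := by rw [hwz, hwd]
      _ = d⁻¹ * z := by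
          have hcomm : Commute z d⁻¹ := (Commute.inv_right (show Commute z d from hdz.symm))
          exact hcomm.eq
      _ = (z * d)⁻¹ := by
          have hzi : z⁻¹ = z := inv_eq_of_mul_eq_one_left hz2
          rw [mul_inv_rev, hzi]
  have hrH : z * d ∈ H := H.mul_mem hzH hdH
  have hor' : orderOf (⟨z * d, hrH⟩ : ↥H) = 6 := by
    rw [← Subgroup.orderOf_coe]
    exact hor
  have hconj' : (⟨w, hwH⟩ : ↥H) * ⟨z * d, hrH⟩ * (⟨w, hwH⟩ : ↥H)⁻¹ = (⟨z * d, hrH⟩ : ↥H)⁻¹ :=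
    Subtype.ext hconj
  refine hISO ↥H ⟨z * d, hrH⟩ ⟨w, hwH⟩ cH hor' (Subtype.ext hw2) ?_ hconj'
  intro hmem
  obtain ⟨n, hn⟩ := Subgroup.mem_zpowers_iff.mp hmem
  have hcomm : Commute (⟨w, hwH⟩ : ↥H) ⟨z * d, hrH⟩ := by
    rw [← hn]
    exact (Commute.refl _).zpow_left n
  have h1 : (⟨z * d, hrH⟩ : ↥H)⁻¹ = ⟨z * d, hrH⟩ := by
    rw [← hconj', hcomm.eq]
    group
  have h2 : (⟨z * d, hrH⟩ : ↥H) ^ 2 = 1 := by
    rw [pow_two]
    nth_rewrite 1 [← h1]
    exact inv_mul_cancel _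
  have h3 := orderOf_dvd_of_pow_eq_one h2
  rw [hor'] at h3
  omega

end Cfsg.Agent.Lib.Helper33.SWC3
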