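import Mathlib
import Cfsg.Agent.Lib.Helper10.SWDefs
import Cfsg.Agent.Lib.Helper33.SWC3

/-!
# Piece C4I of S3685 (Sims–Wong): `Zs P ≰ Qs P'` for some adjacent pair ⟹ `StructS4 H`
-/

set_option autoImplicit false

namespace Cfsg.Agent.Lib.Helper33.SWC4I

open Pointwise
open Cfsg.Agent.Lib.Helper10.SWDefs
open Cfsg.Agent.Lib.Helper33.SWC3

universe u

section

variable {G : Type u} [Group G]

/-- two elements outside a subgroup of index two differ by an element of it -/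
theorem idx2 {A L : Subgroup G} (hi : A.relIndex L = 2) {g h : G} (hg : g ∈ L) (hh : h ∈ L)
    (hgA : g ∉ A) (hhA : h ∉ A) : g⁻¹ * h ∈ A := by
  have h2 : (A.subgroupOf L).index = 2 := hi
  have h3 := Subgroup.mul_mem_iff_of_index_two h2 (a := (⟨g, hg⟩ : ↥L)⁻¹) (b := ⟨h, hh⟩)
  have h4 : (⟨g, hg⟩ : ↥L)⁻¹ * ⟨h, hh⟩ ∈ A.subgroupOf L := by
    rw [h3]
    constructor
    · intro h5
      exfalso
      apply hgA
      have h6 := Subgroup.mem_subgroupOf.mp h5
      simpa using h6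
    · intro h5
      exact absurd (Subgroup.mem_subgroupOf.mp h5) hhA
  have h7 := Subgroup.mem_subgroupOf.mp h4
  simpa using h7

theorem mem_sup_of_commute {A B : Subgroup G} (hc : ∀ a ∈ A, ∀ b ∈ B, a * b = b * a) {x : G}
    (hx : x ∈ A ⊔ B) : ∃ a ∈ A, ∃ b ∈ B, x = a * b := by
  rw [Subgroup.sup_eq_closure] at hx
  induction hx using Subgroup.closure_induction with
  | mem x hx =>
    rcases hx with h | h
    · exact ⟨x, h, 1, B.one_mem, (mul_one x).symm⟩
    · exact ⟨1, A.one_mem, x, h, (one_mul x).symm⟩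
  | one => exact ⟨1, A.one_mem, 1, B.one_mem, (mul_one 1).symm⟩
  | mul x y _ _ hx hy =>
    obtain ⟨a, ha, b, hb, rfl⟩ := hx
    obtain ⟨a', ha', b', hb', rfl⟩ := hy
    refine ⟨a * a', A.mul_mem ha ha', b * b', B.mul_mem hb hb', ?_⟩
    calc a * b * (a' * b') = a * (b * a') * b' := by group
      _ = a * (a' * b) * b' := by rw [← hc a' ha' b hb]
      _ = a * a' * (b * b') := by group
  | inv x _ hx =>
    obtain ⟨a, ha, b, hb, rfl⟩ := hx
    refine ⟨a⁻¹, A.inv_mem ha, b⁻¹, B.inv_mem hb, ?_⟩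
    rw [mul_inv_rev]
    exact (hc a⁻¹ (A.inv_mem ha) b⁻¹ (B.inv_mem hb)).symm

theorem conj_closure_eq {S : Set G} {p : G} (h1 : ∀ g ∈ S, p * g * p⁻¹ ∈ S)
    (h2 : ∀ g ∈ S, p⁻¹ * g * p ∈ S) :
    MulAut.conj p • Subgroup.closure S = Subgroup.closure S := by
  apply le_antisymm
  · have hB : Subgroup.closure S ≤ MulAut.conj p⁻¹ • Subgroup.closure S := by
      rw [Subgroup.closure_le]
      intro g hg
      rw [SetLike.mem_coe, mem_conj_smul, inv_inv]
      exact Subgroup.subset_closure (h1 g hg)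
    have h3 := Subgroup.pointwise_smul_le_pointwise_smul_iff (a := MulAut.conj p).2 hB
    rwa [conj_smul_inv] at h3
  · rw [Subgroup.closure_le]
    intro g hg
    rw [SetLike.mem_coe, mem_conj_smul]
    exact Subgroup.subset_closure (h2 g hg)

theorem card_le_two_of {K : Subgroup G} (h : ∀ a ∈ K, ∀ b ∈ K, a ≠ 1 → b ≠ 1 → a = b) :
    Nat.card K ≤ 2 := by
  classical
  have hinj : Function.Injective (fun w : ↥K => decide ((w : G) = 1)) := by
    intro a b hab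
    simp only [decide_eq_decide] at hab
    apply Subtype.ext
    by_cases ha : (a : G) = 1
    · rw [ha, hab.mp ha]
    · have hb : (b : G) ≠ 1 := fun hb => ha (hab.mpr hb)
      exact h a a.2 b b.2 ha hb
  have h1 := Nat.card_le_card_of_injective _ hinj
  simpa using h1

theorem card_line {P S : Subgroup G} (hline : IsLine P S) (hq : (Qs P).relIndex S = 2) :
    Nat.card P = 6 * Nat.card (Qs P) := by
  have c1 := Subgroup.relIndex_mul_relIndex ⊥ S P bot_le hline.1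
  have c2 := Subgroup.relIndex_mul_relIndex ⊥ (Qs P) S bot_le (Qs_le_line hline)
  rw [Subgroup.relIndex_bot_left, Subgroup.relIndex_bot_left] at c1 c2
  rw [hline.2] at c1
  rw [hq] at c2
  omega

/-- the decomposition of the elements of `Q0a` along `Q0b` -/
theorem decomp {L Qb Q0a Q0b Wb : Subgroup G} {t s e : G}
    (hi : Qb.relIndex L = 2) (htL : t ∈ L) (htQ : t ∉ Qb) (ht2 : t * t = 1)
    (hsup : Q0b ⊔ Wb = Qb) (hWc : ∀ w ∈ Wb, ∀ q ∈ Qb, w * q = q * w)
    (hWt : ∀ w ∈ Wb, t * w = w * t → w = 1 ∨ w = e)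
    (hWs : ∀ w ∈ Wb, w * s = s * w) (hts : t * s ≠ s * t)
    (hQ0aL : Q0a ≤ L) (hat : ∀ q ∈ Q0a, q * t = t * q) (has : ∀ q ∈ Q0a, q * s = s * q)
    (hbt : ∀ q ∈ Q0b, q * t = t * q) (hbs : ∀ q ∈ Q0b, q * s = s * q) :
    ∀ q' ∈ Q0a, ∃ q ∈ Q0b, q' = q ∨ q' = q * e := by
  intro q' hq'
  have hQ0bQ : Q0b ≤ Qb := hsup ▸ le_sup_left
  have hcomm : ∀ a ∈ Q0b, ∀ b ∈ Wb, a * b = b * a :=
    fun a ha b hb => (hWc b hb a (hQ0bQ ha)).symm
  by_cases hq'Q : q' ∈ Qb
  · rw [← hsup] at hq'Q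
    obtain ⟨q, hq, w, hw, rfl⟩ := mem_sup_of_commute hcomm hq'Q
    refine ⟨q, hq, ?_⟩
    have hwt : t * w = w * t := by
      have h1 := hat _ hq'
      have h2 := hbt q hq
      calc t * w = q⁻¹ * ((q * t) * w) := by group
        _ = q⁻¹ * ((t * q) * w) := by rw [h2]
        _ = q⁻¹ * (t * (q * w)) := by group
        _ = q⁻¹ * (q * w * t) := by rw [h1]
        _ = w * t := by group
    rcases hWt w hw hwt with h | h
    · left
      rw [h, mul_one]
    · right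
      rw [h]
  · exfalso
    have hq'i : q'⁻¹ ∉ Qb := fun h => hq'Q (by simpa using Qb.inv_mem h)
    have ha := idx2 hi (L.inv_mem (hQ0aL hq')) htL hq'i htQ
    rw [inv_inv, ← hsup] at ha
    obtain ⟨q, hq, w, hw, hqw⟩ := mem_sup_of_commute hcomm ha
    apply hts
    have h1 : q' = q * w * t := by
      calc q' = q' * (t * t) := by rw [ht2, mul_one]
        _ = (q' * t) * t := by group
        _ = q * w * t := by rw [hqw]
    have h2 := has q' hq'
    rw [h1] at h2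
    have h3 := hbs q hq
    have h4 := hWs w hw
    have h5 : q * w * t * s = q * w * (s * t) := by
      calc q * w * t * s = s * (q * w * t) := h2
        _ = (s * q) * w * t := by group
        _ = (q * s) * w * t := by rw [h3]
        _ = q * (s * w) * t := by group
        _ = q * (w * s) * t := by rw [h4]
        _ = q * w * (s * t) := by group
    have h6 : q * w * (t * s) = q * w * (s * t) := by
      rw [← h5]
      group
    exact mul_left_cancel h6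

theorem sq_eq {q' q e : G} (h : q' = q ∨ q' = q * e) (hqe : q * e = e * q) (he2 : e * e = 1) :
    q' * q' = q * q := by
  rcases h with rfl | rfl
  · rfl
  · calc q * e * (q * e) = q * (e * q) * e := by group
      _ = q * (q * e) * e := by rw [hqe]
      _ = q * q * (e * e) := by group
      _ = q * q := by rw [he2, mul_one]

theorem conj_mem_Q0 {X Q0 Y : Subgroup G} (hsup : X ⊔ Q0 = Y)
    (hc : ∀ x ∈ X, ∀ q ∈ Q0, x * q = q * x) {p q : G} (hp : p ∈ Y) (hq : q ∈ Q0) :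
    p * q * p⁻¹ ∈ Q0 := by
  rw [← hsup] at hp
  obtain ⟨a, ha, b, hb, rfl⟩ := mem_sup_of_commute hc hp
  have hbq : b * q * b⁻¹ ∈ Q0 := Q0.mul_mem (Q0.mul_mem hb hq) (Q0.inv_mem hb)
  have h1 := hc a ha _ hbq
  have h2 : a * b * q * (a * b)⁻¹ = b * q * b⁻¹ := by
    calc a * b * q * (a * b)⁻¹ = a * (b * q * b⁻¹) * a⁻¹ := by group
      _ = (b * q * b⁻¹) * a * a⁻¹ := by rw [h1]
      _ = b * q * b⁻¹ := by group
  rw [h2]
  exact hbq

theorem central_of_exp2 {X Q0 Y : Subgroup G} (hsup : X ⊔ Q0 = Y)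
    (hc : ∀ x ∈ X, ∀ q ∈ Q0, x * q = q * x) (h2 : ∀ q ∈ Q0, q * q = 1) :
    ∀ p ∈ Y, ∀ q ∈ Q0, p * q = q * p := by
  intro p hp q hq
  rw [← hsup] at hp
  obtain ⟨a, ha, b, hb, rfl⟩ := mem_sup_of_commute hc hp
  have h3 := h2 (b * q) (Q0.mul_mem hb hq)
  have h4 : q * b = b * q := by
    have h5 : q * b = b * (b * q * (b * q)) * q := by
      calc q * b = (b * b) * q * b * (q * q) := by rw [h2 b hb, h2 q hq]; group
        _ = b * (b * q * (b * q)) * q := by group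
    rw [h3, mul_one] at h5
    exact h5
  calc a * b * q = a * (b * q) := by group
    _ = a * (q * b) := by rw [h4]
    _ = (a * q) * b := by group
    _ = (q * a) * b := by rw [hc a ha q hq]
    _ = q * (a * b) := by group

end

/-- the case `P = H` -/
theorem core (hDEC : StDEC.{u}) {G : Type u} [Group G] [Finite G] (H : Subgroup G)
    (hB : Base H) (hZ : ZF H) (y : Subgroup G) (hy : IsPt H y) (hadj : Adj H y)
    (hnot : ¬ Zs H ≤ Qs y) : StructS4 H := by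
  have hx := isPt_self H
  have hadj' := hB.adj_symm H y hx hy hadj
  have hLx := hB.adj_line H y hx hy hadj
  have hLy := hB.adj_line y H hy hx hadj'
  rw [inf_comm] at hLy
  have hQxL : Qs H ≤ H ⊓ y := Qs_le_line hLx
  have hQyL : Qs y ≤ H ⊓ y := Qs_le_line hLy
  have hix := hB.q_index H _ hx hLx
  have hiy := hB.q_index y _ hy hLy
  have h2L := hB.line_two H _ hx hLx
  -- the element `u`
  obtain ⟨u, huZ, huQ⟩ := SetLike.not_le_iff_exists.mp hnot
  have huQx : u ∈ Qs H := hZ.z_le H hx huZ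
  have huL : u ∈ H ⊓ y := hQxL huQx
  have hu2 : u * u = 1 := hZ.z_sq H hx u huZ
  have hucx : ∀ q ∈ Qs H, q * u = u * q := hZ.z_cent H hx u huZ
  -- the element `v0`
  have hex : ∃ v0 ∈ Zs y, u * v0 ≠ v0 * u := by
    by_contra hcon
    push Not at hcon
    exact huQ (hZ.cz y hy u huL.2 hcon)
  obtain ⟨v0, hv0Z, hv0u⟩ := hex
  have hv0Qy : v0 ∈ Qs y := hZ.z_le y hy hv0Z
  have hv0L : v0 ∈ H ⊓ y := hQyL hv0Qy
  have hv0Qx : v0 ∉ Qs H := fun h => hv0u (hucx v0 h).symm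
  -- the element `e`
  obtain ⟨e, he⟩ : ∃ e, e = v0 * u * v0⁻¹ * u⁻¹ := ⟨_, rfl⟩
  have he1 : e ≠ 1 := by
    intro h
    apply hv0u
    have h1 : v0 * u = e * (u * v0) := by rw [he]; group
    rw [h, one_mul] at h1
    exact h1.symm
  have heZx : e ∈ Zs H := by
    have h1 : v0 * u * v0⁻¹ ∈ MulAut.conj v0 • Zs H := conj_mem_conj_smul huZ
    rw [hZ.z_nrm H hx v0 hv0L.1] at h1
    rw [he]
    exact (Zs H).mul_mem h1 ((Zs H).inv_mem huZ)
  have heZy : e ∈ Zs y := by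
    have h1 : u * v0⁻¹ * u⁻¹ ∈ MulAut.conj u • Zs y :=
      conj_mem_conj_smul ((Zs y).inv_mem hv0Z)
    rw [hZ.z_nrm y hy u huL.2] at h1
    have h2 : e = v0 * (u * v0⁻¹ * u⁻¹) := by rw [he]; group
    rw [h2]
    exact (Zs y).mul_mem hv0Z h1
  have heQx : e ∈ Qs H := hZ.z_le H hx heZx
  have heQy : e ∈ Qs y := hZ.z_le y hy heZy
  have he2 : e * e = 1 := hZ.z_sq H hx e heZx
  -- DEC at `y`
  have hD7 : ∀ q ∈ Qs y, q * u * q⁻¹ * u⁻¹ = 1 ∨ q * u * q⁻¹ * u⁻¹ = e := by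
    intro q hq
    by_cases hqx : q ∈ Qs H
    · left
      rw [hucx q hqx]
      group
    · right
      have ha := idx2 hix hv0L (hQyL hq) hv0Qx hqx
      have hc := hucx _ ha
      calc q * u * q⁻¹ * u⁻¹ = v0 * (v0⁻¹ * q * u) * q⁻¹ * u⁻¹ := by group
        _ = v0 * (u * (v0⁻¹ * q)) * q⁻¹ * u⁻¹ := by rw [hc]
        _ = v0 * u * v0⁻¹ * u⁻¹ := by group
        _ = e := he.symm
  obtain ⟨Xy, Q0y, Wy, hXy, hQ0y, hWyQ, hWyX, huXy, heWy, hXQy, hXQy', hcy, hcardXy, hcardWy,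
      hNy, hselfy, hWcy, hWy2, hQWy, hWuy, hNyW⟩ :=
    hDEC G y (Qs y) u e (hQyL.trans inf_le_right) (hB.q_nrm y hy)
      ((hB.line_two y _ hy hLy).to_le hQyL) (card_line hLy hiy) (hZ.cq y hy) huL.2 huQ
      hu2 he1 heQy hD7 (fun d hd h3 => hB.inv3 y _ hy hLy u huL huQ d hd h3)
  -- the element `v`
  have hexv : ∃ v ∈ Wy, u * v ≠ v * u := by
    by_contra hcon
    push Not at hcon
    have h1 : Nat.card Wy ≤ 2 := by
      apply card_le_two_of
      intro a ha b hb ha1 hb1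
      rcases hWuy a ha (hcon a ha) with h | h
      · exact absurd h ha1
      · rcases hWuy b hb (hcon b hb) with h' | h'
        · exact absurd h' hb1
        · rw [h, h']
    omega
  obtain ⟨v, hvW, hvu⟩ := hexv
  have hvQy : v ∈ Qs y := hWyQ hvW
  have hvL : v ∈ H ⊓ y := hQyL hvQy
  have hvQx : v ∉ Qs H := fun h => hvu (hucx v h).symm
  have hv2 : v * v = 1 := hWy2 v hvW
  have hui : u⁻¹ = u := inv_eq_of_mul_eq_one_left hu2
  have hvi : v⁻¹ = v := inv_eq_of_mul_eq_one_left hv2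
  have huv : u * v * u⁻¹ * v⁻¹ = e := by
    have h1 : u * v * u⁻¹ ∈ Wy := by
      have h2 : u * v * u⁻¹ ∈ MulAut.conj u • Wy := conj_mem_conj_smul hvW
      rwa [hNyW u huL.2] at h2
    have hcW : u * v * u⁻¹ * v⁻¹ ∈ Wy := Wy.mul_mem h1 (Wy.inv_mem hvW)
    have habel : (u * v * u⁻¹) * v = v * (u * v * u⁻¹) := hWcy _ h1 v hvQy
    rw [hui] at habel h1
    have hcomm : u * (u * v * u⁻¹ * v⁻¹) = (u * v * u⁻¹ * v⁻¹) * u := by
      rw [hui, hvi]
      calc u * (u * v * u * v) = (u * u) * v * u * v := by group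
        _ = v * u * v := by rw [hu2, one_mul]
        _ = v * u * v * (u * u) := by rw [hu2, mul_one]
        _ = (v * (u * v * u)) * u := by group
        _ = (u * v * u * v) * u := by rw [← habel]
    rcases hWuy _ hcW hcomm with h | h
    · exfalso
      apply hvu
      have h3 : u * v = (u * v * u⁻¹ * v⁻¹) * (v * u) := by group
      rw [h, one_mul] at h3
      exact h3
    · exact h
  -- DEC at `H`
  have hE7 : ∀ q ∈ Qs H, q * v * q⁻¹ * v⁻¹ = 1 ∨ q * v * q⁻¹ * v⁻¹ = e := by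
    intro q hq
    by_cases hqy : q ∈ Qs y
    · left
      rw [← hWcy v hvW q hqy]
      group
    · right
      have ha := idx2 hiy huL (hQxL hq) huQ hqy
      have hc := hWcy v hvW _ ha
      calc q * v * q⁻¹ * v⁻¹ = u * ((u⁻¹ * q) * v) * q⁻¹ * v⁻¹ := by group
        _ = u * (v * (u⁻¹ * q)) * q⁻¹ * v⁻¹ := by rw [hc]
        _ = u * v * u⁻¹ * v⁻¹ := by group
        _ = e := huv
  obtain ⟨Xx, Q0x, Wx, hXx, hQ0x, hWxQ, hWxX, hvXx, heWx, hXQx, hXQx', hcx, hcardXx, hcardWx,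
      hNx, hselfx, hWcx, hWx2, hQWx, hWvx, hNxW⟩ :=
    hDEC G H (Qs H) v e (hQxL.trans inf_le_left) (hB.q_nrm H hx)
      (h2L.to_le hQxL) (card_line hLx hix) (hZ.cq H hx) hvL.1 hvQx
      hv2 he1 heQx hE7 (fun d hd h3 => hB.inv3 H _ hx hLx v hvL hvQx d hd h3)
  -- the decompositions
  have hyu : ∀ q ∈ Q0y, q * u = u * q := fun q hq => (hcy u huXy q hq).symm
  have hyv : ∀ q ∈ Q0y, q * v = v * q := fun q hq => (hcy v (hWyX hvW) q hq).symm
  have hye : ∀ q ∈ Q0y, q * e = e * q := fun q hq => (hcy e (hWyX heWy) q hq).symm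
  have hxu : ∀ q ∈ Q0x, q * u = u * q := fun q hq => hucx q (hQ0x hq)
  have hxv : ∀ q ∈ Q0x, q * v = v * q := fun q hq => (hcx v hvXx q hq).symm
  have hxe : ∀ q ∈ Q0x, q * e = e * q := fun q hq => (hcx e (hWxX heWx) q hq).symm
  have hdec1 : ∀ q' ∈ Q0x, ∃ q ∈ Q0y, q' = q ∨ q' = q * e :=
    decomp hiy huL huQ hu2 hQWy hWcy hWuy (fun w hw => hWcy w hw v hvQy) hvu
      (hQ0x.trans hQxL) hxu hxv hyu hyv
  have hdec2 : ∀ q ∈ Q0y, ∃ q' ∈ Q0x, q = q' ∨ q = q' * e :=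
    decomp hix hvL hvQx hv2 hQWx hWcx hWvx (fun w hw => hucx w (hWxQ hw))
      (fun h => hvu h.symm) (hQ0y.trans hQyL) hyv hyu hxv hxu
  have hsq1 : ∀ q' ∈ Q0x, ∃ q ∈ Q0y, q' * q' = q * q := by
    intro q' hq'
    obtain ⟨q, hq, h⟩ := hdec1 q' hq'
    exact ⟨q, hq, sq_eq h (hye q hq) he2⟩
  have hsq2 : ∀ q ∈ Q0y, ∃ q' ∈ Q0x, q * q = q' * q' := by
    intro q hq
    obtain ⟨q', hq', h⟩ := hdec2 q hq
    exact ⟨q', hq', sq_eq h (hxe q' hq') he2⟩
  -- the squares generate a normal subgroup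
  obtain ⟨Sx, hSx⟩ : ∃ Sx : Set G, Sx = {g | ∃ q ∈ Q0x, g = q * q} := ⟨_, rfl⟩
  have hSmem : ∀ g, g ∈ Sx ↔ ∃ q ∈ Q0x, g = q * q := by
    intro g
    rw [hSx]
    rfl
  have hSH : ∀ p ∈ H, ∀ g ∈ Sx, p * g * p⁻¹ ∈ Sx := by
    intro p hp g hg
    obtain ⟨q, hq, rfl⟩ := (hSmem g).mp hg
    exact (hSmem _).mpr ⟨p * q * p⁻¹, conj_mem_Q0 hXQx' hcx hp hq, by group⟩
  have hSy : ∀ p ∈ y, ∀ g ∈ Sx, p * g * p⁻¹ ∈ Sx := by
    intro p hp g hg
    obtain ⟨q', hq', rfl⟩ := (hSmem g).mp hg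
    obtain ⟨q, hq, hqq⟩ := hsq1 q' hq'
    obtain ⟨q'', hq'', hqq'⟩ := hsq2 (p * q * p⁻¹) (conj_mem_Q0 hXQy' hcy hp hq)
    refine (hSmem _).mpr ⟨q'', hq'', ?_⟩
    rw [← hqq', hqq]
    group
  have hN1 : H ≤ NrmSub (Subgroup.closure Sx) := by
    intro p hp
    refine mem_NrmSub.mpr (conj_closure_eq (hSH p hp) (fun g hg => ?_))
    have h1 := hSH p⁻¹ (H.inv_mem hp) g hg
    rwa [inv_inv] at h1
  have hN2 : y ≤ NrmSub (Subgroup.closure Sx) := by
    intro p hp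
    refine mem_NrmSub.mpr (conj_closure_eq (hSy p hp) (fun g hg => ?_))
    have h1 := hSy p⁻¹ (y.inv_mem hp) g hg
    rwa [inv_inv] at h1
  have hN : NrmSub (Subgroup.closure Sx) = ⊤ := by
    rw [eq_top_iff, ← hB.gen H y hx hy hadj.1]
    exact sup_le hN1 hN2
  have hQ0xH : Q0x ≤ H := hQ0x.trans (hQxL.trans inf_le_left)
  have hclQ : Subgroup.closure Sx ≤ Q0x := by
    rw [Subgroup.closure_le]
    intro g hg
    obtain ⟨q, hq, rfl⟩ := (hSmem g).mp hg
    exact Q0x.mul_mem hq hq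
  have hclN : (Subgroup.closure Sx).Normal := by
    refine ⟨fun n hn g => ?_⟩
    have hg : g ∈ NrmSub (Subgroup.closure Sx) := by rw [hN]; exact Subgroup.mem_top g
    rw [mem_NrmSub] at hg
    rw [← hg]
    exact conj_mem_conj_smul hn
  have hcl : Subgroup.closure Sx = ⊥ := hB.core H _ hx (hclQ.trans hQ0xH) hclN
  have hx2 : ∀ q ∈ Q0x, q * q = 1 := by
    intro q hq
    have h1 : q * q ∈ Subgroup.closure Sx := Subgroup.subset_closure ((hSmem _).mpr ⟨q, hq, rfl⟩)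
    rw [hcl, Subgroup.mem_bot] at h1
    exact h1
  have hy2 : ∀ q ∈ Q0y, q * q = 1 := by
    intro q hq
    obtain ⟨q', hq', h⟩ := hsq2 q hq
    rw [h]
    exact hx2 q' hq'
  -- `Q0x ⊓ Q0y` is central in `G`, hence trivial
  have hcenx := central_of_exp2 hXQx' hcx hx2
  have hceny := central_of_exp2 hXQy' hcy hy2
  have hcent : ∀ n ∈ Q0x ⊓ Q0y, ∀ g : G, g * n = n * g := by
    intro n hn g
    have h1 : H ≤ Subgroup.centralizer ({n} : Set G) := by
      intro p hp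
      rw [Subgroup.mem_centralizer_iff]
      intro h hh
      rw [Set.mem_singleton_iff] at hh
      rw [hh]
      exact (hcenx p hp n hn.1).symm
    have h2 : y ≤ Subgroup.centralizer ({n} : Set G) := by
      intro p hp
      rw [Subgroup.mem_centralizer_iff]
      intro h hh
      rw [Set.mem_singleton_iff] at hh
      rw [hh]
      exact (hceny p hp n hn.2).symm
    have h3 : g ∈ Subgroup.centralizer ({n} : Set G) := by
      have h4 : (⊤ : Subgroup G) ≤ Subgroup.centralizer ({n} : Set G) := by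
        rw [← hB.gen H y hx hy hadj.1]
        exact sup_le h1 h2
      exact h4 (Subgroup.mem_top g)
    rw [Subgroup.mem_centralizer_iff] at h3
    exact (h3 n rfl).symm
  have hInormal : (Q0x ⊓ Q0y).Normal := by
    refine ⟨fun n hn g => ?_⟩
    have h1 : g * n * g⁻¹ = n := by
      rw [hcent n hn g]
      group
    rw [h1]
    exact hn
  have hI : Q0x ⊓ Q0y = ⊥ := hB.core H _ hx (inf_le_left.trans hQ0xH) hInormal
  -- `|Q0x| ≤ 2`
  have hcard : Nat.card Q0x ≤ 2 := by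
    apply card_le_two_of
    intro a ha b hb ha1 hb1
    obtain ⟨qa, hqa, haa⟩ := hdec1 a ha
    obtain ⟨qb, hqb, hbb⟩ := hdec1 b hb
    rcases haa with haa | haa
    · exfalso
      apply ha1
      have h1 : a ∈ Q0x ⊓ Q0y := ⟨ha, haa ▸ hqa⟩
      rw [hI, Subgroup.mem_bot] at h1
      exact h1
    · rcases hbb with hbb | hbb
      · exfalso
        apply hb1
        have h1 : b ∈ Q0x ⊓ Q0y := ⟨hb, hbb ▸ hqb⟩
        rw [hI, Subgroup.mem_bot] at h1
        exact h1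
      · have h1 : a * b⁻¹ = qa * qb⁻¹ := by
          rw [haa, hbb]
          group
        have h2 : a * b⁻¹ ∈ Q0x ⊓ Q0y :=
          ⟨Q0x.mul_mem ha (Q0x.inv_mem hb), h1 ▸ Q0y.mul_mem hqa (Q0y.inv_mem hqb)⟩
        rw [hI, Subgroup.mem_bot] at h2
        exact mul_inv_eq_one.mp h2
  exact ⟨Xx, Q0x, Wx, hXx, hQ0xH, hXQx, hXQx', hcx, hcard, hcardXx, hWxX, hcardWx, hNx, hselfx⟩

theorem main : Cfsg.Agent.Lib.Helper10.SWDefs.StC4I.{u} := by
  intro hDEC G _ _ H hB _ hZ hex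
  obtain ⟨P, P', hP, hP', hadj, hnot⟩ := hex
  obtain ⟨g, rfl⟩ := hP
  have hy : IsPt H (MulAut.conj g⁻¹ • P') := isPt_conj hP' g⁻¹
  have hadj2 : Adj H (MulAut.conj g⁻¹ • P') := by
    have h1 := adj_conj g⁻¹ hadj
    rwa [conj_inv_smul] at h1
  refine core hDEC H hB hZ _ hy hadj2 ?_
  intro hle
  apply hnot
  rw [Qs_conj] at hle
  have h1 := Subgroup.pointwise_smul_le_pointwise_smul_iff (a := MulAut.conj g).2 hle
  rwa [conj_smul_inv, ← Zs_conj] at h1

end Cfsg.Agent.Lib.Helper33.SWC4I
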