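import Mathlib
import Cfsg.Agent.Lib.Helper16.BRStmt
import Cfsg.Agent.Lib.Helper75.SelfCentCore

/-!
# Brauer–Reynolds, piece W1: S0999 from the core theorem
-/

set_option autoImplicit false

namespace Cfsg.Agent.Lib.Helper33.BRW1

open Cfsg
open scoped commutatorElement

universe u

/-- A commutative simple group is cyclic. -/
theorem isCyclic_of_comm {G : Type u} [Group G] [IsSimpleGroup G]
    (hc : ∀ a b : G, a * b = b * a) : IsCyclic G := by
  obtain ⟨g, hg⟩ := exists_ne (1 : G)
  have hn : (Subgroup.zpowers g).Normal := by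
    refine ⟨fun n hn x => ?_⟩
    rw [hc x n, mul_inv_cancel_right]; exact hn
  rcases hn.eq_bot_or_eq_top with h | h
  · exact absurd (Subgroup.zpowers_eq_bot.mp h) hg
  · exact isCyclic_iff_exists_zpowers_eq_top.mpr ⟨g, h⟩

/-- A noncyclic simple group is perfect. -/
theorem perfect_of_simple {G : Type u} [Group G] [IsSimpleGroup G] (hnc : ¬ IsCyclic G) :
    commutator G = ⊤ := by
  have hn : (commutator G).Normal := by
    rw [commutator_def]; infer_instance
  rcases hn.eq_bot_or_eq_top with h | h
  · exfalso
    apply hnc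
    apply isCyclic_of_comm
    intro a b
    have h1 : ⁅a, b⁆ ∈ commutator G := by
      rw [commutator_def]
      exact Subgroup.commutator_mem_commutator (Subgroup.mem_top a) (Subgroup.mem_top b)
    rw [h, Subgroup.mem_bot, commutatorElement_eq_one_iff_mul_comm] at h1
    exact h1
  · exact h

/-- If `p ∣ |G|`, `|G| < p ^ 3` and a Sylow `p`-subgroup `P` is not normal, then `|P| = p`. -/
theorem sylow_card_eq {G : Type u} [Group G] [Finite G] (p : ℕ) [Fact p.Prime]
    (hdvd : p ∣ Nat.card G) (hlt : Nat.card G < p ^ 3) (P : Sylow p G)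
    (hP : ¬ (P : Subgroup G).Normal) : Nat.card (P : Subgroup G) = p := by
  have hp : p.Prime := Fact.out
  have hcard := P.card_eq_multiplicity
  set k := (Nat.card G).factorization p with hk
  have hG0 : Nat.card G ≠ 0 := Nat.card_pos.ne'
  have hk1 : 1 ≤ k := by
    have := (hp.dvd_iff_one_le_factorization hG0).mp hdvd
    exact this
  have hdk : p ^ k ∣ Nat.card G := by
    rw [← hcard]; exact Subgroup.card_subgroup_dvd_card _
  have hk3 : k < 3 := by
    by_contra hcon
    push Not at hcon
    have h1 : p ^ 3 ∣ Nat.card G := (pow_dvd_pow p hcon).trans hdk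
    have h2 := Nat.le_of_dvd Nat.card_pos h1
    omega
  have hk' : k = 1 ∨ k = 2 := by omega
  rcases hk' with h1 | h2
  · rw [hcard, h1, pow_one]
  · exfalso
    apply hP
    -- the index is `< p`
    have hidx := (P : Subgroup G).card_mul_index
    rw [hcard, h2] at hidx
    have hm : (P : Subgroup G).index < p := by
      by_contra hcon
      push Not at hcon
      have : p ^ 2 * p ≤ p ^ 2 * (P : Subgroup G).index := Nat.mul_le_mul_left _ hcon
      have h3 : p ^ 3 = p ^ 2 * p := by ring
      omega
    have hmpos : 0 < (P : Subgroup G).index := by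
      rcases Nat.eq_zero_or_pos (P : Subgroup G).index with h0 | h0
      · rw [h0, mul_zero] at hidx
        exact absurd hidx.symm hG0
      · exact h0
    have hn1 : Nat.card (Sylow p G) ∣ (P : Subgroup G).index := P.card_dvd_index
    have hn2 : Nat.card (Sylow p G) ≡ 1 [MOD p] := card_sylow_modEq_one p G
    have hn3 : Nat.card (Sylow p G) < p := lt_of_le_of_lt (Nat.le_of_dvd hmpos hn1) hm
    have hn4 : Nat.card (Sylow p G) = 1 := by
      have h5 : Nat.card (Sylow p G) % p = 1 % p := hn2
      rw [Nat.mod_eq_of_lt hn3, Nat.mod_eq_of_lt hp.one_lt] at h5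
      exact h5
    have : Subsingleton (Sylow p G) := (Nat.card_eq_one_iff_unique.mp hn4).1
    exact P.normal_of_subsingleton

theorem main : Cfsg.Agent.Lib.Helper16.BRStmt.S0999OfCore.{u} := by
  intro hcore G _ _ _ hnc p hp hdvd hlt
  have : Fact p.Prime := ⟨hp⟩
  have hperf : commutator G = ⊤ := perfect_of_simple hnc
  have hncomm : ¬ ∀ a b : G, a * b = b * a := fun h => hnc (isCyclic_of_comm h)
  obtain ⟨P⟩ : Nonempty (Sylow p G) := inferInstance
  have hPn : ¬ (P : Subgroup G).Normal := by
    intro hn
    rcases hn.eq_bot_or_eq_top with h | h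
    · exact P.ne_bot_of_dvd_card hdvd h
    · apply hncomm
      have hpg : IsPGroup p G := by
        intro g
        have hg : g ∈ (P : Subgroup G) := by rw [h]; exact Subgroup.mem_top g
        obtain ⟨k, hk⟩ := P.isPGroup' ⟨g, hg⟩
        exact ⟨k, by simpa using congrArg Subtype.val hk⟩
      have hnil : Group.IsNilpotent G := hpg.isNilpotent
      have hs : Group.IsSolvable G := inferInstance
      exact IsSimpleGroup.comm_iff_isSolvable.mpr hs
  have hPc := sylow_card_eq p hdvd hlt P hPn
  have hO : pPrimeCore p G = ⊥ := by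
    have hn := Cfsg.Agent.Lib.Helper75.SelfCentCore.pPrimeCore_normal G p
    rcases hn.eq_bot_or_eq_top with h | h
    · exact h
    · exfalso
      have h1 := Cfsg.Agent.Lib.Helper75.SelfCentCore.pPrimeCore_not_dvd G hp
      rw [h, Subgroup.card_top] at h1
      exact h1 hdvd
  rcases hcore G hperf p P hPc hO hlt with ⟨h3, ⟨e⟩⟩ | h
  · left
    exact ⟨ZMod p, inferInstance, inferInstance, ZMod.card p, h3, ⟨e⟩⟩
  · right
    exact h

end Cfsg.Agent.Lib.Helper33.BRW1
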