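import Mathlib
import Cfsg.Agent.Lib.Helper16.BRStmt
import Cfsg.Agent.Lib.Helper75.SelfCentCore
import Cfsg.Agent.Lib.Helper23.TwoComp
import Cfsg.Agent.Lib.Helper5.SL2Card
import Cfsg.Agent.Lib.Helper38.PSL2Deg
import Cfsg.Agent.Lib.Helper33.BRW1

/-!
# Brauer–Reynolds, piece W2: S4701 from the core theorem
-/

set_option autoImplicit false

namespace Cfsg.Agent.Lib.Helper33.BRW2

open Cfsg
open scoped commutatorElement

universe u

/-- A quotient of a perfect group is perfect. -/
theorem perfect_quotient {G : Type u} [Group G] (K : Subgroup G) [K.Normal]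
    (hperf : commutator G = ⊤) : commutator (G ⧸ K) = ⊤ := by
  rw [commutator_def] at hperf ⊢
  have hs : Function.Surjective (QuotientGroup.mk' K) := QuotientGroup.mk'_surjective K
  have h1 : (⊤ : Subgroup (G ⧸ K)) = (⊤ : Subgroup G).map (QuotientGroup.mk' K) :=
    (Subgroup.map_top_of_surjective _ hs).symm
  rw [h1, ← Subgroup.map_commutator, hperf]

/-- A finite field of order `2 ^ m`, `m ≠ 0`, has characteristic `2`. -/
theorem charP_two {F : Type} [Field F] [Fintype F] {m : ℕ} (hF : Fintype.card F = 2 ^ m) :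
    CharP F 2 := by
  obtain ⟨c, hc⟩ := CharP.exists F
  obtain ⟨n, hcp, hn⟩ := FiniteField.card F c
  have h1 : c ∣ 2 ^ m := by
    rw [← hF, hn]
    exact dvd_pow_self c n.pos.ne'
  have h2 : c = 2 := (Nat.prime_dvd_prime_iff_eq hcp Nat.prime_two).mp (hcp.dvd_of_dvd_pow h1)
  rw [← h2]; exact hc

/-- The `p'`-core is trivial under the hypotheses of S4701. -/
theorem core_eq_bot (hcore : Cfsg.Agent.Lib.Helper16.BRStmt.CoreStmt.{u})
    {G : Type u} [Group G] [Finite G] (hperf : commutator G = ⊤) (p : ℕ) [Fact p.Prime]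
    (hlt : Nat.card G < p ^ 3) (P : Sylow p G) (hPc : Nat.card (P : Subgroup G) = p)
    (h2 : ∀ N : Subgroup G, N.Normal → Nat.card N ≠ 2) : pPrimeCore p G = ⊥ := by
  have hp : p.Prime := Fact.out
  have hKn : (pPrimeCore p G).Normal := inferInstance
  have hGK : Nat.card G = Nat.card (G ⧸ pPrimeCore p G) * Nat.card (pPrimeCore p G) :=
    Subgroup.card_eq_card_quotient_mul_card_subgroup (pPrimeCore p G)
  have hKnd : ¬ p ∣ Nat.card (pPrimeCore p G) :=
    Cfsg.Agent.Lib.Helper75.SelfCentCore.pPrimeCore_not_dvd G hp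
  have hKpos : 0 < Nat.card (pPrimeCore p G) := Nat.card_pos
  have hQpos : 0 < Nat.card (G ⧸ pPrimeCore p G) := Nat.card_pos
  have hperfQ : commutator (G ⧸ pPrimeCore p G) = ⊤ := perfect_quotient _ hperf
  have hltQ : Nat.card (G ⧸ pPrimeCore p G) < p ^ 3 := by
    refine lt_of_le_of_lt ?_ hlt
    rw [hGK]
    exact Nat.le_mul_of_pos_right _ hKpos
  obtain ⟨P'⟩ : Nonempty (Sylow p (G ⧸ pPrimeCore p G)) := inferInstance
  have hP'c : Nat.card (P' : Subgroup (G ⧸ pPrimeCore p G)) = p := by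
    have h1 := P'.card_eq_multiplicity
    have h3 := P.card_eq_multiplicity
    rw [hPc] at h3
    have hf1 : (Nat.card G).factorization p = 1 := by
      have := Nat.pow_right_injective hp.two_le (show p ^ 1 = p ^ (Nat.card G).factorization p by
        rw [pow_one]; exact h3)
      exact this.symm
    have hf2 : (Nat.card (pPrimeCore p G)).factorization p = 0 :=
      Nat.factorization_eq_zero_of_not_dvd hKnd
    have hf3 : (Nat.card (G ⧸ pPrimeCore p G)).factorization p = 1 := by
      have h4 : (Nat.card G).factorization p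
          = (Nat.card (G ⧸ pPrimeCore p G) * Nat.card (pPrimeCore p G)).factorization p := by
        rw [← hGK]
      rw [Nat.factorization_mul hQpos.ne' hKpos.ne', Finsupp.add_apply, hf1, hf2, add_zero] at h4
      exact h4.symm
    rw [h1, hf3, pow_one]
  have hOQ : pPrimeCore p (G ⧸ pPrimeCore p G) = ⊥ :=
    Cfsg.Agent.Lib.Helper23.TwoComp.pPrimeCore_quotient_eq_bot p
  have hK2 : Nat.card (pPrimeCore p G) < 3 := by
    by_contra hcon
    push Not at hcon
    have h3Q : Nat.card (G ⧸ pPrimeCore p G) * 3 < p ^ 3 := by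
      refine lt_of_le_of_lt ?_ hlt
      rw [hGK]
      exact Nat.mul_le_mul_left _ hcon
    rcases hcore (G ⧸ pPrimeCore p G) hperfQ p P' hP'c hOQ hltQ with
      ⟨h3, ⟨e⟩⟩ | ⟨m, F, _, _, hF, hpm, h3, ⟨e⟩⟩
    · have hc := Cfsg.Agent.Lib.Helper5.SL2Card.card_PSL_two (F := ZMod p) (q := p) (ZMod.card p)
      have hQc : Nat.card (G ⧸ pPrimeCore p G)
          = Nat.card (Matrix.ProjectiveSpecialLinearGroup (Fin 2) (ZMod p)) :=
        Nat.card_congr e.toEquiv
      have hodd : Odd p := by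
        rcases hp.eq_two_or_odd' with h | h
        · omega
        · exact h
      have hg : Nat.gcd 2 (p - 1) = 2 := by
        apply Nat.gcd_eq_left
        obtain ⟨c, hc'⟩ := hodd
        exact ⟨c, by omega⟩
      rw [hg] at hc
      obtain ⟨s, hs⟩ : ∃ s, p ^ 2 = s + 1 := ⟨p ^ 2 - 1, by
        have : 0 < p ^ 2 := pow_pos hp.pos 2
        omega⟩
      have hs' : p ^ 2 - 1 = s := by omega
      rw [hs'] at hc
      have hQ2 : Nat.card (G ⧸ pPrimeCore p G) * 2 = p * s := by
        rw [hQc]; exact hc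
      have hp3 : p ^ 3 = p * (s + 1) := by rw [← hs]; ring
      rw [hp3] at h3Q
      have h5 : p * s < p * 2 := by nlinarith
      have h6 : s < 2 := Nat.lt_of_mul_lt_mul_left h5
      have h7 : 4 * 4 ≤ p * p := Nat.mul_le_mul h3 h3
      have h8 : p ^ 2 = p * p := by ring
      omega
    · have hc := Cfsg.Agent.Lib.Helper5.SL2Card.card_PSL_two (F := F) hF
      have hQc : Nat.card (G ⧸ pPrimeCore p G)
          = Nat.card (Matrix.ProjectiveSpecialLinearGroup (Fin 2) F) :=
        Nat.card_congr e.toEquiv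
      have hm0 : m ≠ 0 := by
        rintro rfl
        simp at hpm
        omega
      have hq2 : 2 ∣ 2 ^ m := dvd_pow_self 2 hm0
      set q := 2 ^ m with hq
      have hq3 : 3 ≤ q := by omega
      have hg : Nat.gcd 2 (q - 1) = 1 := by
        have : ¬ 2 ∣ q - 1 := by
          obtain ⟨c, hc'⟩ := hq2
          omega
        exact (Nat.Prime.coprime_iff_not_dvd Nat.prime_two).mpr this
      rw [hg, mul_one] at hc
      obtain ⟨r, hr⟩ : ∃ r, q = r + 3 := ⟨q - 3, by omega⟩
      have hs' : q ^ 2 - 1 = r ^ 2 + 6 * r + 8 := by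
        have : q ^ 2 = r ^ 2 + 6 * r + 9 := by rw [hr]; ring
        omega
      rw [hs'] at hc
      rw [hQc, hc, hpm, hr] at h3Q
      have h9 : 0 ≤ r ^ 3 := Nat.zero_le _
      have h10 : 0 ≤ r ^ 2 := Nat.zero_le _
      nlinarith
  have hK1 : Nat.card (pPrimeCore p G) = 1 := by
    have := h2 _ hKn
    omega
  exact Subgroup.card_eq_one.mp hK1

theorem main : Cfsg.Agent.Lib.Helper16.BRStmt.S4701OfCore.{u} := by
  intro hcore G _ _ hperf p _ hdvd hlt P hPn h2
  have hp : p.Prime := Fact.out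
  have hPc := Cfsg.Agent.Lib.Helper33.BRW1.sylow_card_eq p hdvd hlt P hPn
  have hO : pPrimeCore p G = ⊥ := core_eq_bot hcore hperf p hlt P hPc h2
  rcases hcore G hperf p P hPc hO hlt with ⟨h3, ⟨e⟩⟩ | ⟨m, F, _, _, hF, hpm, h3, ⟨e⟩⟩
  · left
    exact ⟨ZMod p, inferInstance, inferInstance, ZMod.card p, h3, ⟨e⟩⟩
  · right
    have hch : CharP F 2 := charP_two hF
    exact ⟨m, F, inferInstance, inferInstance, hF, hpm, h3,
      ⟨e.trans (Cfsg.Agent.Lib.Helper38.PSL2Deg.pslEquiv F)⟩⟩

end Cfsg.Agent.Lib.Helper33.BRW2
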