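import Mathlib
import Cfsg.Agent.Lib.Helper18.R59Stmt

/-!
# Piece CLOSE of S2359
-/

set_option autoImplicit false

namespace Cfsg.Agent.Lib.Helper33.R59CLOSE

universe u

theorem main : Cfsg.Agent.Lib.Helper18.R59Stmt.CLOSE.{u} := by
  intro G _ H A a hH hAH haA hC
  have h1 : Subgroup.centralizer (H : Set G) ≤ Subgroup.centralizer (A : Set G) :=
    Subgroup.centralizer_le (fun x hx => hAH hx)
  have h2 : Subgroup.centralizer (A : Set G) ≤ Subgroup.centralizer ({a} : Set G) :=
    Subgroup.centralizer_le (fun x hx => by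
      rw [Set.mem_singleton_iff] at hx
      rw [hx]
      exact haA)
  have h3 : Subgroup.centralizer ({a} : Set G) ≤ Subgroup.centralizer (H : Set G) := by
    intro x hx
    rw [Subgroup.mem_centralizer_iff] at hx ⊢
    intro h hh
    have hxa : x * a = a * x := (hx a rfl).symm
    have hha : h * a = a * h := hH h hh a (hAH haA)
    exact hC h x hha hxa
  exact ⟨le_antisymm h2 (h3.trans h1), le_antisymm (h1.trans h2) h3⟩

end Cfsg.Agent.Lib.Helper33.R59CLOSE
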