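import Mathlib
import Cfsg.Agent.Lib.Helper18.R59Stmt

/-!
# Piece SYLC of S2359: an element of prime order `p` is conjugate into any subgroup containing
a Sylow `p`-subgroup
-/

set_option autoImplicit false

namespace Cfsg.Agent.Lib.Helper33.R59SYLC

open Pointwise

universe u

theorem main : Cfsg.Agent.Lib.Helper18.R59Stmt.SYLC.{u} := by
  intro G _ _ X p hp hfac a ha
  have : Fact p.Prime := ⟨hp⟩
  obtain ⟨Q⟩ : Nonempty (Sylow p X) := inferInstance
  have hQ : Nat.card (Q : Subgroup X) = p ^ (Nat.card X).factorization p :=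
    Sylow.card_eq_multiplicity Q
  have hQ' : Nat.card ((Q : Subgroup X).map X.subtype) = p ^ (Nat.card G).factorization p := by
    rw [Subgroup.card_map_of_injective X.subtype_injective, hQ, hfac]
  have hza : IsPGroup p (Subgroup.zpowers a) :=
    IsPGroup.of_card (n := 1) (by rw [Nat.card_zpowers, ha, pow_one])
  obtain ⟨P, hP⟩ := hza.exists_le_sylow
  obtain ⟨g, hg⟩ := MulAction.exists_smul_eq G P (Sylow.ofCard _ hQ')
  refine ⟨g, ?_⟩
  have h1 : a ∈ (P : Subgroup G) := hP (Subgroup.mem_zpowers a)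
  have h2 : MulAut.conj g • a ∈ MulAut.conj g • (P : Subgroup G) :=
    Subgroup.smul_mem_pointwise_smul a (MulAut.conj g) (P : Subgroup G) h1
  have h3 : ((g • P : Sylow p G) : Subgroup G) = MulAut.conj g • (P : Subgroup G) :=
    Sylow.pointwise_smul_def
  rw [← h3, hg] at h2
  have h4 : MulAut.conj g • a = g * a * g⁻¹ := by
    rw [MulAut.smul_def, MulAut.conj_apply]
  rw [h4] at h2
  have h5 : ((Sylow.ofCard _ hQ' : Sylow p G) : Subgroup G) = (Q : Subgroup X).map X.subtype :=
    rfl
  rw [h5] at h2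
  obtain ⟨y, -, hy⟩ := Subgroup.mem_map.mp h2
  rw [← hy]
  exact y.2

end Cfsg.Agent.Lib.Helper33.R59SYLC
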