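import Mathlib
import Cfsg.Agent.Lib.Helper18.R59Stmt

/-!
# Piece TRANS of S2359: transport of the local structure by conjugation
-/

set_option autoImplicit false

namespace Cfsg.Agent.Lib.Helper33.R59TRANS

open Cfsg.Agent.Lib.Helper18.R59Stmt

universe u

section

variable {G : Type u} [Group G]

theorem cj1 (g : G) {x y : G} (h : x * y = y * x) :
    (g * x * g⁻¹) * (g * y * g⁻¹) = (g * y * g⁻¹) * (g * x * g⁻¹) := by
  calc (g * x * g⁻¹) * (g * y * g⁻¹) = g * (x * y) * g⁻¹ := by group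
    _ = g * (y * x) * g⁻¹ := by rw [h]
    _ = (g * y * g⁻¹) * (g * x * g⁻¹) := by group

theorem cj2 (g : G) {x y : G} (h : x * y = y * x) :
    (g⁻¹ * x * g) * (g⁻¹ * y * g) = (g⁻¹ * y * g) * (g⁻¹ * x * g) := by
  calc (g⁻¹ * x * g) * (g⁻¹ * y * g) = g⁻¹ * (x * y) * g := by group
    _ = g⁻¹ * (y * x) * g := by rw [h]
    _ = (g⁻¹ * y * g) * (g⁻¹ * x * g) := by group

/-- `x` commutes with `g t g⁻¹` ⟹ `g⁻¹ x g` commutes with `t` -/
theorem e2 (g : G) {x t : G} (h : x * (g * t * g⁻¹) = (g * t * g⁻¹) * x) :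
    (g⁻¹ * x * g) * t = t * (g⁻¹ * x * g) := by
  have h1 := cj2 g h
  have e : g⁻¹ * (g * t * g⁻¹) * g = t := by group
  rwa [e] at h1

/-- `x` commutes with `g⁻¹ a g` ⟹ `g x g⁻¹` commutes with `a` -/
theorem e3 (g : G) {x a : G} (h : x * (g⁻¹ * a * g) = (g⁻¹ * a * g) * x) :
    (g * x * g⁻¹) * a = a * (g * x * g⁻¹) := by
  have h1 := cj1 g h
  have e : g * (g⁻¹ * a * g) * g⁻¹ = a := by group
  rwa [e] at h1

end

theorem main : Cfsg.Agent.Lib.Helper18.R59Stmt.TRANS.{u} := by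
  intro G _ a t g n hL
  obtain ⟨hcomm, hcard, t', ht'2, ht'1, ht't, ht'a, ht'c, hall⟩ := hL
  refine ⟨?_, ?_, g * t' * g⁻¹, ?_, ?_, ?_, ?_, ?_, ?_⟩
  · intro x y hxa hxt hya hyt
    have h1 := hcomm (g⁻¹ * x * g) (g⁻¹ * y * g) (cj2 g hxa) (e2 g hxt) (cj2 g hya) (e2 g hyt)
    have h2 : x * y = g * ((g⁻¹ * x * g) * (g⁻¹ * y * g)) * g⁻¹ := by group
    rw [h2, h1]
    group
  · rw [← hcard]
    refine Nat.card_congr
      { toFun := fun x => ⟨g⁻¹ * x.1 * g, cj2 g x.2.1, e2 g x.2.2⟩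
        invFun := fun y => ⟨g * y.1 * g⁻¹, e3 g y.2.1, cj1 g y.2.2⟩
        left_inv := fun x => Subtype.ext (by
          show g * (g⁻¹ * x.1 * g) * g⁻¹ = x.1
          group)
        right_inv := fun y => Subtype.ext (by
          show g⁻¹ * (g * y.1 * g⁻¹) * g = y.1
          group) }
  · calc g * t' * g⁻¹ * (g * t' * g⁻¹) = g * (t' * t') * g⁻¹ := by group
      _ = 1 := by rw [ht'2]; group
  · intro h
    apply ht'1
    have h1 : t' = g⁻¹ * (g * t' * g⁻¹) * g := by group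
    rw [h1, h]
    group
  · intro h
    exact ht't (mul_left_cancel (mul_right_cancel h))
  · exact e3 g ht'a
  · exact cj1 g ht'c
  · intro v hv2 hva hvt
    have hv2' : (g⁻¹ * v * g) * (g⁻¹ * v * g) = 1 := by
      calc (g⁻¹ * v * g) * (g⁻¹ * v * g) = g⁻¹ * (v * v) * g := by group
        _ = 1 := by rw [hv2]; group
    have hv : v = g * (g⁻¹ * v * g) * g⁻¹ := by group
    rcases hall _ hv2' (cj2 g hva) (e2 g hvt) with h | h | h | h
    · left
      rw [hv, h]
      group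
    · right; left
      rw [hv, h]
    · right; right; left
      rw [hv, h]
    · right; right; right
      rw [hv, h]
      group

end Cfsg.Agent.Lib.Helper33.R59TRANS
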