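import Mathlib
import Cfsg.Agent.Lib.Helper42.ReeSpStmt
import Cfsg.Agent.Lib.Helper5.SL2Card

/-!
# S1159 / C2 (helper33): the number of involutions is `q² (q² - q + 1)`.
-/

set_option autoImplicit false

namespace Cfsg.Agent.Lib.Helper33.ReeSpC2

open Cfsg.Agent.Lib.Helper42.ReeSpStmt

universe u v

theorem main : C2.{u, v} := by
  intro G _ _ U H A K _ _ m hax
  unfold C2C
  have h3 := three_le_qq m
  obtain ⟨a, ha⟩ : ∃ a, qq m = a + 1 := ⟨qq m - 1, by omega⟩
  have ha2 : 2 ≤ a := by omega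
  have hodd : Odd (qq m) := Odd.pow (by decide)
  have haev : Even a := by
    rw [ha] at hodd
    rcases Nat.even_or_odd a with h | h
    · exact h
    · exact absurd hodd (Nat.not_odd_iff_even.mpr h.add_one)
  have hcard := hax.card
  have h2dvd : 2 ∣ Nat.card G := by
    rw [hcard, ha]
    simp only [Nat.add_sub_cancel]
    exact Dvd.dvd.mul_right (Dvd.dvd.mul_left haev.two_dvd _) _
  haveI : Fact (Nat.Prime 2) := ⟨Nat.prime_two⟩
  obtain ⟨s, hs⟩ := exists_prime_orderOf_dvd_card' 2 h2dvd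
  letI : MulAction G {g : G // orderOf g = 2} :=
    { smul := fun x g => ⟨x * g.1 * x⁻¹, by
        rw [← MulAut.conj_apply, MulEquiv.orderOf_eq]; exact g.2⟩
      one_smul := fun g => Subtype.ext (by
        show 1 * g.1 * 1⁻¹ = g.1
        simp)
      mul_smul := fun x y g => Subtype.ext (by
        show (x * y) * g.1 * (x * y)⁻¹ = x * (y * g.1 * y⁻¹) * x⁻¹
        group) }
  have hsmul : ∀ (x : G) (g : {g : G // orderOf g = 2}), ((x • g : {g : G // orderOf g = 2}) : G)
      = x * g.1 * x⁻¹ := fun _ _ => rfl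
  haveI : MulAction.IsPretransitive G {g : G // orderOf g = 2} := ⟨fun g g' => by
    obtain ⟨x, hx⟩ := hax.invConj g.1 g'.1 g.2 g'.2
    exact ⟨x, Subtype.ext hx⟩⟩
  have hidx := MulAction.index_stabilizer_of_transitive G (⟨s, hs⟩ : {g : G // orderOf g = 2})
  have hstab : MulAction.stabilizer G (⟨s, hs⟩ : {g : G // orderOf g = 2}) =
      Subgroup.centralizer ({s} : Set G) := by
    ext x
    rw [MulAction.mem_stabilizer_iff, Subgroup.mem_centralizer_singleton_iff]
    constructor
    · intro h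
      have h1 : x * s * x⁻¹ = s := congrArg Subtype.val h
      calc x * s = (x * s * x⁻¹) * x := by group
        _ = s * x := by rw [h1]
    · intro h
      apply Subtype.ext
      show x * s * x⁻¹ = s
      rw [h]; group
  rw [hstab] at hidx
  obtain ⟨e⟩ := hax.invo s hs
  have hC : Nat.card (Subgroup.centralizer ({s} : Set G)) = (a + 1) * ((a + 1) ^ 2 - 1) := by
    rw [Nat.card_congr e.toEquiv, Nat.card_prod]
    have h4 := Cfsg.Agent.Lib.Helper5.SL2Card.card_PSL_two (F := K) hax.cardK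
    rw [ha] at h4
    simp only [Nat.add_sub_cancel] at h4
    have hg : Nat.gcd 2 a = 2 := Nat.gcd_eq_left haev.two_dvd
    rw [hg] at h4
    have h5 : Nat.card (Multiplicative (ZMod 2)) = 2 := by
      rw [Nat.card_eq_fintype_card]
      rfl
    rw [h5, mul_comm]
    exact h4
  have h6 := (Subgroup.centralizer ({s} : Set G)).index_mul_card
  rw [hidx, hC, hcard, ha] at h6
  rw [ha]
  have e1 : (a + 1) ^ 2 - 1 = a * (a + 2) := by
    apply Nat.sub_eq_of_eq_add; ring
  have e2 : (a + 1) ^ 2 - (a + 1) + 1 = a ^ 2 + a + 1 := by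
    have e3 : (a + 1) ^ 2 - (a + 1) = a ^ 2 + a := by
      apply Nat.sub_eq_of_eq_add; ring
    rw [e3]
  rw [e1] at h6
  simp only [Nat.add_sub_cancel] at h6
  rw [e2]
  have hpos : 0 < (a + 1) * (a * (a + 2)) := by positivity
  apply Nat.eq_of_mul_eq_mul_right hpos
  rw [h6]
  ring

end Cfsg.Agent.Lib.Helper33.ReeSpC2
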