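import Mathlib
import Cfsg.Agent.Lib.Helper42.ReeSpStmt

/-!
# S1159 / C3 (helper33): the number of nonidentity 3-elements is `(q³ + 1)(q³ - 1)`.
-/

set_option autoImplicit false

namespace Cfsg.Agent.Lib.Helper33.ReeSpC3

open Cfsg.Agent.Lib.Helper42.ReeSpStmt

universe u v

theorem card_ne_one (X : Type u) [Group X] [Finite X] :
    Nat.card {w : X // w ≠ 1} = Nat.card X - 1 := by
  classical
  haveI := Fintype.ofFinite X
  rw [Nat.card_eq_fintype_card, Nat.card_eq_fintype_card]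
  exact Set.card_ne_eq (1 : X)

theorem main : C3.{u, v} := by
  classical
  intro G _ _ U H A K _ _ m hax hS
  unfold C3C
  obtain ⟨hN, -, hconj⟩ := hS
  have hex : ∀ t : {g : G // g ≠ 1 ∧ g ^ 9 = 1}, ∃ x : G, x * t.1 * x⁻¹ ∈ U := by
    intro t
    exact hconj t.1 ⟨2, by
      have h9 : (3 : ℕ) ^ 2 = 9 := by norm_num
      rw [h9]
      exact t.2.2⟩
  choose x hx using hex
  have hnorm : ∀ n : G, (∃ w ∈ U, w ≠ 1 ∧ n * w * n⁻¹ ∈ U) →
      n ∈ Subgroup.normalizer (U : Set G) := by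
    rintro n ⟨w, hw, hw1, hnw⟩
    have h1 := hax.ti n ⟨w, hw, hw1, hnw⟩
    have h2 := hax.ti n⁻¹ ⟨n * w * n⁻¹, hnw, ?_, ?_⟩
    · rw [Subgroup.mem_normalizer_iff]
      intro h
      constructor
      · exact h1 h
      · intro hh
        have h3 := h2 _ hh
        have h4 : n⁻¹ * (n * h * n⁻¹) * n⁻¹⁻¹ = h := by group
        rw [h4] at h3
        exact h3
    · intro h
      apply hw1
      have h5 : w = n⁻¹ * (n * w * n⁻¹) * n := by group
      rw [h5, h]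
      group
    · have h5 : n⁻¹ * (n * w * n⁻¹) * n⁻¹⁻¹ = w := by group
      rw [h5]
      exact hw
  have hmem : ∀ (t : {g : G // g ≠ 1 ∧ g ^ 9 = 1}) (n : Subgroup.normalizer (U : Set G)),
      (n.1 * x t) * t.1 * (n.1 * x t)⁻¹ ∈ U := by
    intro t n
    have h1 := (Subgroup.mem_normalizer_iff.mp n.2 _).mp (hx t)
    have h2 : (n.1 * x t) * t.1 * (n.1 * x t)⁻¹ = n.1 * (x t * t.1 * (x t)⁻¹) * n.1⁻¹ := by
      group
    rw [h2]
    exact h1
  have hne : ∀ (t : {g : G // g ≠ 1 ∧ g ^ 9 = 1}) (y : G), y * t.1 * y⁻¹ ≠ 1 := by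
    intro t y h
    apply t.2.1
    have h5 : t.1 = y⁻¹ * (y * t.1 * y⁻¹) * y := by group
    rw [h5, h]
    group
  obtain ⟨Ψ, hΨ⟩ : ∃ Ψ : {g : G // g ≠ 1 ∧ g ^ 9 = 1} × Subgroup.normalizer (U : Set G) →
      G × {w : U // w ≠ 1}, ∀ p, (Ψ p).1 = p.2.1 * x p.1 ∧
        (((Ψ p).2 : U) : G) = (p.2.1 * x p.1) * p.1.1 * (p.2.1 * x p.1)⁻¹ :=
    ⟨fun p => (p.2.1 * x p.1, ⟨⟨_, hmem p.1 p.2⟩,
      fun h => hne p.1 (p.2.1 * x p.1) (congrArg Subtype.val h)⟩), fun p => ⟨rfl, rfl⟩⟩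
  have hbij : Function.Bijective Ψ := by
    constructor
    · rintro ⟨t, n⟩ ⟨t', n'⟩ h
      have h1 : n.1 * x t = n'.1 * x t' := by
        have h0 := congrArg Prod.fst h
        rw [(hΨ _).1, (hΨ _).1] at h0
        exact h0
      have h2 : (n.1 * x t) * t.1 * (n.1 * x t)⁻¹ = (n'.1 * x t') * t'.1 * (n'.1 * x t')⁻¹ := by
        have h0 : (((Ψ (t, n)).2 : U) : G) = (((Ψ (t', n')).2 : U) : G) := by rw [h]
        rw [(hΨ _).2, (hΨ _).2] at h0
        exact h0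
      rw [← h1] at h2
      have h3 : t.1 = t'.1 := mul_left_cancel (mul_right_cancel h2)
      have h4 : t = t' := Subtype.ext h3
      subst h4
      have h5 : n.1 = n'.1 := mul_right_cancel h1
      have h6 : n = n' := Subtype.ext h5
      rw [h6]
    · rintro ⟨y, ⟨⟨w, hw⟩, hw1⟩⟩
      have hw1' : w ≠ 1 := fun h => hw1 (Subtype.ext h)
      have ht : y⁻¹ * w * y ≠ 1 ∧ (y⁻¹ * w * y) ^ 9 = 1 := by
        constructor
        · intro h
          apply hw1'
          have h5 : w = y * (y⁻¹ * w * y) * y⁻¹ := by group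
          rw [h5, h]
          group
        · have h5 : y⁻¹ * w * y = y⁻¹ * w * y⁻¹⁻¹ := by rw [inv_inv]
          rw [h5, conj_pow, hax.exp9 w hw]
          group
      obtain ⟨t, htdef⟩ : ∃ t : {g : G // g ≠ 1 ∧ g ^ 9 = 1}, t.1 = y⁻¹ * w * y :=
        ⟨⟨_, ht⟩, rfl⟩
      have hn : y * (x t)⁻¹ ∈ Subgroup.normalizer (U : Set G) := by
        apply hnorm
        refine ⟨x t * t.1 * (x t)⁻¹, hx t, hne t (x t), ?_⟩
        have h5 : y * (x t)⁻¹ * (x t * t.1 * (x t)⁻¹) * (y * (x t)⁻¹)⁻¹ = w := by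
          rw [htdef]
          group
        rw [h5]
        exact hw
      refine ⟨(t, ⟨y * (x t)⁻¹, hn⟩), ?_⟩
      apply Prod.ext
      · rw [(hΨ _).1]
        show y * (x t)⁻¹ * x t = y
        group
      · apply Subtype.ext
        apply Subtype.ext
        rw [(hΨ _).2]
        show (y * (x t)⁻¹ * x t) * t.1 * (y * (x t)⁻¹ * x t)⁻¹ = w
        rw [htdef]
        group
  have hcount := Nat.card_congr (Equiv.ofBijective Ψ hbij)
  rw [Nat.card_prod, Nat.card_prod, hN, card_ne_one, hax.cardU, hax.card] at hcount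
  have h3 := three_le_qq m
  have hpos : 0 < qq m ^ 3 * (qq m - 1) := Nat.mul_pos (by positivity) (by omega)
  apply Nat.eq_of_mul_eq_mul_right hpos
  rw [hcount]
  ring

end Cfsg.Agent.Lib.Helper33.ReeSpC3
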