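import Mathlib
import Cfsg.Agent.Lib.Helper42.ReeSpStmt

/-!
# S1159 / ODDH (helper33): an element whose order has an odd prime divisor dividing `q - 1`
is conjugate into `H`.
-/

set_option autoImplicit false

namespace Cfsg.Agent.Lib.Helper33.ReeSpODDH

open Cfsg.Agent.Lib.Helper42.ReeSpStmt

universe u v

/-- a subgroup `H` whose index is prime to `p` contains a conjugate of every element of
order `p`. -/
theorem exists_conj_mem_of_not_dvd_index {G : Type u} [Group G] [Finite G] (H : Subgroup G)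
    (p : ℕ) [Fact p.Prime] (hidx : ¬ p ∣ H.index) (y : G) (hy : orderOf y = p) :
    ∃ x : G, x * y * x⁻¹ ∈ H := by
  have hp : p.Prime := Fact.out
  obtain ⟨Q0⟩ : Nonempty (Sylow p H) := inferInstance
  have hQp : IsPGroup p ((Q0 : Subgroup H).map H.subtype) := Q0.isPGroup'.map _
  have hidx' : ¬ p ∣ ((Q0 : Subgroup H).map H.subtype).index := by
    rw [Subgroup.index_map_subtype]
    intro hd
    rcases (Nat.Prime.dvd_mul hp).mp hd with h1 | h1
    · exact Q0.not_dvd_index h1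
    · exact hidx h1
  have hyp : IsPGroup p (Subgroup.zpowers y) := by
    apply IsPGroup.of_card (n := 1)
    rw [Nat.card_zpowers, hy, pow_one]
  obtain ⟨P, hP⟩ := hyp.exists_le_sylow
  obtain ⟨x, hx⟩ := MulAction.exists_smul_eq G P (hQp.toSylow hidx')
  refine ⟨x, ?_⟩
  have h1 : x * y * x⁻¹ ∈ ((x • P : Sylow p G) : Subgroup G) := by
    rw [Sylow.coe_subgroup_smul]
    exact Subgroup.smul_mem_pointwise_smul _ _ _ (hP (Subgroup.mem_zpowers y))
  rw [hx] at h1
  have h2 : x * y * x⁻¹ ∈ (Q0 : Subgroup H).map H.subtype := h1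
  exact Subgroup.map_subtype_le _ h2

theorem main : OddH.{u, v} := by
  intro G _ _ U H A K _ _ m hax g p hp hp2 hpg hpq
  haveI : Fact p.Prime := ⟨hp⟩
  obtain ⟨y, hy⟩ : ∃ y, y = g ^ (orderOf g / p) := ⟨_, rfl⟩
  have hyo : orderOf y = p := by
    rw [hy]
    exact orderOf_pow_orderOf_div (orderOf_pos g).ne' hpg
  have hidx : ¬ p ∣ H.index := by
    have h1 : H.index * Nat.card H = Nat.card G := H.index_mul_card
    rw [hax.cardH, hax.card] at h1
    have h3 := three_le_qq m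
    obtain ⟨a, ha⟩ : ∃ a, qq m = a + 1 := ⟨qq m - 1, by omega⟩
    rw [ha] at h1 hpq
    simp only [Nat.add_sub_cancel] at h1 hpq
    have ha0 : 0 < a := by omega
    have h4 : H.index = (a + 1) ^ 3 * ((a + 1) ^ 3 + 1) := by
      apply Nat.eq_of_mul_eq_mul_right ha0
      rw [h1]; ring
    rw [h4]
    intro hd
    rcases (Nat.Prime.dvd_mul hp).mp hd with h5 | h5
    · have h6 : p ∣ a + 1 := hp.dvd_of_dvd_pow h5
      have h7 : p ∣ 1 := (Nat.dvd_add_right hpq).mp h6
      exact hp.one_lt.ne' (Nat.dvd_one.mp h7)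
    · have h6 : (a + 1) ^ 3 + 1 = a * (a ^ 2 + 3 * a + 3) + 2 := by ring
      rw [h6] at h5
      have h7 : p ∣ 2 := (Nat.dvd_add_right (dvd_mul_of_dvd_left hpq _)).mp h5
      exact hp2 ((Nat.prime_dvd_prime_iff_eq hp Nat.prime_two).mp h7)
  obtain ⟨x, hx⟩ := exists_conj_mem_of_not_dvd_index H p hidx y hyo
  refine ⟨x, ?_⟩
  have ho : orderOf (x * y * x⁻¹) = p := by
    rw [← MulAut.conj_apply, MulEquiv.orderOf_eq, hyo]
  have hne : x * y * x⁻¹ ≠ 1 := by
    intro h1
    rw [h1, orderOf_one] at ho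
    exact hp.one_lt.ne ho
  have hodd : Odd (orderOf (x * y * x⁻¹)) := by
    rw [ho]
    exact hp.odd_of_ne_two hp2
  apply hax.centH (x * y * x⁻¹) hx hne hodd (x * g * x⁻¹)
  have hc : g * y = y * g := by
    rw [hy]
    exact (Commute.pow_right (Commute.refl g) _).eq
  calc x * g * x⁻¹ * (x * y * x⁻¹) = x * (g * y) * x⁻¹ := by group
    _ = x * (y * g) * x⁻¹ := by rw [hc]
    _ = x * y * x⁻¹ * (x * g * x⁻¹) := by group

end Cfsg.Agent.Lib.Helper33.ReeSpODDH
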