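import Mathlib
import Cfsg.Agent.Lib.Helper33.Gpn

set_option autoImplicit false

namespace Cfsg.Agent.Lib.Helper33.GpnB

theorem choose_two_succ' (i : ℕ) : (i + 1).choose 2 = i + i.choose 2 := by
  rw [show (2 : ℕ) = 1 + 1 from rfl, Nat.choose_succ_succ', Nat.choose_one_right]

section abstract

variable {A : Type*} [CommGroup A]

theorem sigma_iter (σ : A →* A) (Y Z W : A) (s : ℕ) (hY : σ Y = Y * W ^ s) (hZ : σ Z = Y * Z)
    (hW : σ W = W) (k i j t : ℕ) :
    σ^[k] (Y ^ i * Z ^ j * W ^ t)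
      = Y ^ (i + k * j) * Z ^ j * W ^ (t + s * (k * i + k.choose 2 * j)) := by
  induction k generalizing i t with
  | zero => simp
  | succ k ih =>
    rw [Function.iterate_succ_apply]
    have h1 : σ (Y ^ i * Z ^ j * W ^ t) = Y ^ (i + j) * Z ^ j * W ^ (t + s * i) := by
      rw [map_mul, map_mul, map_pow, map_pow, map_pow, hY, hZ, hW, mul_pow, mul_pow, pow_add,
        pow_add, ← pow_mul]
      ac_rfl
    rw [h1, ih]
    have e1 : i + j + k * j = i + (k + 1) * j := by ring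
    have e2 : t + s * i + s * (k * (i + j) + k.choose 2 * j)
        = t + s * ((k + 1) * i + (k + 1).choose 2 * j) := by
      rw [choose_two_succ']; ring
    rw [e1, e2]

theorem sq_modEq_one {p : ℕ} [Fact p.Prime] (q s k : ℕ) (hq : p ∣ q) (hs : ¬ p ∣ s)
    (σ β : A →* A) (Y Z : A) (hYp : Y ^ p = 1) (hWord : orderOf (Z ^ q) = p)
    (hgenA : ∀ u : A, ∃ i j : ℕ, u = Y ^ i * Z ^ j)
    (hY : σ Y = Y * (Z ^ q) ^ s) (hZ : σ Z = Y * Z)
    (hβ : ∀ u, β (σ u) = σ^[k] (β u)) (hβinj : Function.Injective β) :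
    k * k ≡ 1 [MOD p] := by
  have hpr : p.Prime := Fact.out
  obtain ⟨W, hWdef⟩ : ∃ W : A, W = Z ^ q := ⟨_, rfl⟩
  rw [← hWdef] at hWord hY
  have hYq : Y ^ q = 1 := by
    obtain ⟨c, rfl⟩ := hq
    rw [pow_mul, hYp, one_pow]
  have hW : σ W = W := by
    rw [hWdef, map_pow, hZ, mul_pow, hYq, one_mul]
  obtain ⟨l, m, hlm⟩ := hgenA (β Z)
  have hβW : β W = W ^ m := by
    rw [hWdef, map_pow, hlm, mul_pow, ← pow_mul, ← pow_mul, mul_comm l q, pow_mul, hYq, one_pow,
      one_mul, mul_comm m q, pow_mul]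
  have hpm : ¬ p ∣ m := by
    intro h
    have h1 : β W = 1 := by
      rw [hβW]; obtain ⟨c, rfl⟩ := h
      rw [pow_mul, ← hWord, pow_orderOf_eq_one, one_pow]
    have hW1 : W = 1 := hβinj (by rw [h1, map_one])
    rw [hW1, orderOf_one] at hWord
    exact hpr.one_lt.ne hWord
  have hYeq : Y = σ Z * Z⁻¹ := by rw [hZ]; simp
  have hβY : β Y = Y ^ (k * m) * W ^ (s * (k * l + k.choose 2 * m)) := by
    have h1 : β Y = σ^[k] (β Z) * (β Z)⁻¹ := by
      conv_lhs => rw [hYeq]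
      rw [map_mul, map_inv, hβ]
    have h2 := sigma_iter σ Y Z W s hY hZ hW k l m 0
    rw [pow_zero, mul_one, zero_add] at h2
    rw [h1, hlm, h2, pow_add]
    rw [mul_inv_eq_iff_eq_mul]
    ac_rfl
  have hWs : W ^ s = σ Y * Y⁻¹ := by rw [hY]; simp
  have h3 : β (W ^ s) = W ^ (s * (k * (k * m))) := by
    have h1 : β (W ^ s) = σ^[k] (β Y) * (β Y)⁻¹ := by
      rw [hWs, map_mul, map_inv, hβ]
    have h2 := sigma_iter σ Y Z W s hY hZ hW k (k * m) 0 (s * (k * l + k.choose 2 * m))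
    rw [pow_zero, mul_one, mul_zero, add_zero, mul_zero, add_zero] at h2
    rw [h1, hβY, h2, pow_add, mul_inv_eq_iff_eq_mul]
    ac_rfl
  have h4 : W ^ (m * s) = W ^ (s * (k * (k * m))) := by
    rw [← h3, map_pow, hβW, pow_mul]
  have h5 : m * s ≡ s * (k * (k * m)) [MOD p] := by
    rw [← hWord]; exact pow_eq_pow_iff_modEq.1 h4
  have hcop : Nat.gcd p (m * s) = 1 :=
    (Nat.Prime.coprime_iff_not_dvd hpr).2 (fun h => (hpr.dvd_mul.1 h).elim hpm hs)
  have h6 : m * s * 1 ≡ m * s * (k * k) [MOD p] := by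
    have e : m * s * (k * k) = s * (k * (k * m)) := by ring
    rw [mul_one, e]; exact h5
  exact (Nat.ModEq.cancel_left_of_coprime hcop h6).symm

end abstract

/-- **R1b**: automorphisms of `G(p,n;s)` act on `G/A` by a power map whose exponent squares
to one. -/
theorem gpn_structB {G : Type*} [Group G] [Finite G] {p : ℕ} [Fact p.Prime] (hp : p ≠ 2) (n : ℕ)
    (hn : 4 ≤ n) (hG : Nat.card G = p ^ n) (s : ℕ) (x y z : G) (hs : ¬ p ∣ s)
    (hgen : Subgroup.closure ({x, y, z} : Set G) = ⊤) (hx : x ^ p = 1) (hy : y ^ p = 1)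
    (hz : z ^ p ^ (n - 2) = 1) (hyz : y * z = z * y)
    (hxy : x⁻¹ * y * x = y * z ^ (s * p ^ (n - 3))) (hxz : x⁻¹ * z * x = y * z)
    (hord : orderOf z = p ^ (n - 2)) (hxA : x ∉ Subgroup.closure ({y, z} : Set G))
    (hidx : (Subgroup.closure ({y, z} : Set G)).index = p)
    (hchar : ∀ (α : MulAut G), ∀ a ∈ Subgroup.closure ({y, z} : Set G),
      α a ∈ Subgroup.closure ({y, z} : Set G)) :
    ∀ (α : MulAut G) (g : G) (k : ℕ), g ∉ Subgroup.closure ({y, z} : Set G) →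
      α g * (g ^ k)⁻¹ ∈ Subgroup.closure ({y, z} : Set G) → k * k ≡ 1 [MOD p] := by
  classical
  intro α g k hgA hgk
  have hpr : p.Prime := Fact.out
  have hp0 : 0 < p := hpr.pos
  have hq0 : 0 < p ^ (n - 2) := pow_pos hp0 _
  obtain ⟨-, -, hAc, -, -, -, -, -, -⟩ :=
    Gpn.gpn_structA hp n hn hG s x y z hs hgen hx hy hz hyz hxy hxz
  have hyA : y ∈ Subgroup.closure ({y, z} : Set G) := Subgroup.subset_closure (by simp)
  have hzA : z ∈ Subgroup.closure ({y, z} : Set G) := Subgroup.subset_closure (by simp)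
  obtain ⟨A, hAdef⟩ : ∃ A : Subgroup G, A = Subgroup.closure ({y, z} : Set G) := ⟨_, rfl⟩
  rw [← hAdef] at hxA hidx hchar hgA hgk hAc hyA hzA
  have hAcomm : ∀ u ∈ A, ∀ v ∈ A, u * v = v * u := fun u hu v hv =>
    congrArg Subtype.val (hAc.is_comm.comm ⟨u, hu⟩ ⟨v, hv⟩)
  have hconj : ∀ u ∈ A, x⁻¹ * u * x ∈ A := by
    intro u hu
    rw [hAdef] at hu
    induction hu using Subgroup.closure_induction with
    | mem g hg =>
      simp only [Set.mem_insert_iff, Set.mem_singleton_iff] at hg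
      rcases hg with h | h
      · rw [h, hxy]; exact A.mul_mem hyA (A.pow_mem hzA _)
      · rw [h, hxz]; exact A.mul_mem hyA hzA
    | one => simp
    | mul g h _ _ ihg ihh =>
      have e : x⁻¹ * (g * h) * x = (x⁻¹ * g * x) * (x⁻¹ * h * x) := by group
      rw [e]; exact A.mul_mem ihg ihh
    | inv g _ ih =>
      have e : x⁻¹ * g⁻¹ * x = (x⁻¹ * g * x)⁻¹ := by group
      rw [e]; exact A.inv_mem ih
  have hAn : A.Normal := by
    rw [← Subgroup.normalizer_eq_top_iff, eq_top_iff, ← hgen, Subgroup.closure_le]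
    intro g hg
    simp only [Set.mem_insert_iff, Set.mem_singleton_iff] at hg
    have hxinv : x⁻¹ ∈ Subgroup.normalizer (A : Set G) :=
      Subgroup.mem_normalizer_fintype (fun u hu => by simpa using hconj u hu)
    rcases hg with h | h | h
    · rw [h]; simpa using Subgroup.inv_mem _ hxinv
    · rw [h]; exact Subgroup.le_normalizer hyA
    · rw [h]; exact Subgroup.le_normalizer hzA
  let σ : A →* A :=
    { toFun := fun u => ⟨x⁻¹ * u * x, hconj u u.2⟩
      map_one' := by apply Subtype.ext; simp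
      map_mul' := by intro u v; apply Subtype.ext; simp [mul_assoc] }
  let β : A →* A :=
    { toFun := fun u => ⟨α u, hchar α u u.2⟩
      map_one' := by apply Subtype.ext; simp
      map_mul' := by intro u v; apply Subtype.ext; simp }
  have hσ1 : ∀ u : A, ((σ u : A) : G) = x⁻¹ * u * x := fun u => rfl
  have hβ1 : ∀ u : A, ((β u : A) : G) = α u := fun u => rfl
  have hσk : ∀ (r : ℕ) (u : A), ((σ^[r] u : A) : G) = (x ^ r)⁻¹ * u * x ^ r := by
    intro r
    induction r with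
    | zero => intro u; simp
    | succ r ih =>
      intro u
      rw [Function.iterate_succ_apply', hσ1, ih, pow_succ]; group
  have hax : α x * (x ^ k)⁻¹ ∈ A := by
    have _ := hAn
    have hcardQ : Nat.card (G ⧸ A) = p := by rw [← Subgroup.index_eq_card]; exact hidx
    have hne : (QuotientGroup.mk g : G ⧸ A) ≠ 1 := by
      rw [Ne, QuotientGroup.eq_one_iff]; exact hgA
    have htop := zpowers_eq_top_of_prime_card hcardQ hne
    have hxg : (QuotientGroup.mk x : G ⧸ A) ∈ Subgroup.zpowers (QuotientGroup.mk g : G ⧸ A) := by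
      rw [htop]; trivial
    rw [← mem_powers_iff_mem_zpowers] at hxg
    obtain ⟨r, hr⟩ := hxg
    have ha0 : (g ^ r)⁻¹ * x ∈ A := by
      rw [← QuotientGroup.eq_one_iff (N := A), QuotientGroup.mk_mul, QuotientGroup.mk_inv,
        QuotientGroup.mk_pow]
      rw [← hr]; simp
    have h1 : (QuotientGroup.mk (α g) : G ⧸ A) = (QuotientGroup.mk g) ^ k := by
      have h0 := (QuotientGroup.eq_one_iff (N := A) _).2 hgk
      rw [QuotientGroup.mk_mul, QuotientGroup.mk_inv, QuotientGroup.mk_pow, mul_inv_eq_one] at h0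
      exact h0
    have h2 : (QuotientGroup.mk (α x) : G ⧸ A) = (QuotientGroup.mk g) ^ (k * r) := by
      have e : x = g ^ r * ((g ^ r)⁻¹ * x) := by group
      conv_lhs => rw [e]
      rw [map_mul, map_pow, QuotientGroup.mk_mul, QuotientGroup.mk_pow, h1,
        (QuotientGroup.eq_one_iff (N := A) _).2 (hchar α _ ha0), mul_one, ← pow_mul]
    rw [← QuotientGroup.eq_one_iff (N := A), QuotientGroup.mk_mul, QuotientGroup.mk_inv,
      QuotientGroup.mk_pow, h2, ← hr, ← pow_mul, mul_comm k r, mul_inv_cancel]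
  have hβ : ∀ u : A, β (σ u) = σ^[k] (β u) := by
    intro u
    apply Subtype.ext
    rw [hσk, hβ1, hβ1, hσ1, map_mul, map_mul, map_inv]
    have hc : (α x * (x ^ k)⁻¹)⁻¹ * α (u : G) * (α x * (x ^ k)⁻¹) = α (u : G) := by
      have h0 := hAcomm _ (hchar α _ u.2) _ hax
      rw [mul_assoc, h0, inv_mul_cancel_left]
    calc (α x)⁻¹ * α (u : G) * α x
        = (x ^ k)⁻¹ * ((α x * (x ^ k)⁻¹)⁻¹ * α (u : G) * (α x * (x ^ k)⁻¹)) * x ^ k := by group
      _ = (x ^ k)⁻¹ * α (u : G) * x ^ k := by rw [hc]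
  have hβinj : Function.Injective β := by
    intro u v h
    apply Subtype.ext
    have h0 := congrArg Subtype.val h
    rw [hβ1, hβ1] at h0
    exact α.injective h0
  have hgenA : ∀ u : A, ∃ i j : ℕ, u = (⟨y, hyA⟩ : A) ^ i * (⟨z, hzA⟩ : A) ^ j := by
    rintro ⟨u, hu⟩
    rw [hAdef] at hu
    obtain ⟨i, -, j, -, rfl⟩ := Gpn.mem_closure_pair hyz hp0 hq0 hy hz hu
    exact ⟨i, j, Subtype.ext rfl⟩
  have hYp : (⟨y, hyA⟩ : A) ^ p = 1 := Subtype.ext hy
  have hq : p ∣ p ^ (n - 3) := dvd_pow_self p (by omega)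
  have hWord : orderOf ((⟨z, hzA⟩ : A) ^ p ^ (n - 3)) = p := by
    rw [← Subgroup.orderOf_coe]
    show orderOf (z ^ p ^ (n - 3)) = p
    rw [orderOf_pow' _ (pow_pos hp0 _).ne', hord]
    have e : p ^ (n - 2) = p ^ (n - 3) * p := by rw [← pow_succ]; congr 1; omega
    have hg : Nat.gcd (p ^ (n - 2)) (p ^ (n - 3)) = p ^ (n - 3) :=
      Nat.gcd_eq_right (by rw [e]; exact dvd_mul_right _ _)
    rw [hg, e, Nat.mul_div_cancel_left _ (pow_pos hp0 _)]
  have hY : σ ⟨y, hyA⟩ = (⟨y, hyA⟩ : A) * ((⟨z, hzA⟩ : A) ^ p ^ (n - 3)) ^ s := by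
    apply Subtype.ext
    show x⁻¹ * y * x = y * (z ^ p ^ (n - 3)) ^ s
    rw [hxy, pow_mul']
  have hZ : σ ⟨z, hzA⟩ = (⟨y, hyA⟩ : A) * (⟨z, hzA⟩ : A) := Subtype.ext hxz
  letI : CommGroup A := { (inferInstance : Group A) with mul_comm := fun u v => hAc.is_comm.comm u v }
  exact sq_modEq_one (p ^ (n - 3)) s k hq hs σ β ⟨y, hyA⟩ ⟨z, hzA⟩ hYp hWord hgenA hY hZ hβ hβinj

end Cfsg.Agent.Lib.Helper33.GpnB
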