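import Mathlib
import Cfsg.Agent.Lib.Helper23.HNStmt
import Cfsg.Agent.Lib.Helper91.Hall

/-!
# S1438 / HCONJ: Hall subgroups of equal order of a solvable subgroup `S` are conjugate in `S`
(wrapper of `Cfsg.Agent.Lib.Helper91.Hall.hall_conj`, applied in the group `↥S`).
-/

set_option autoImplicit false

namespace Cfsg.Agent.Lib.Helper33.HNHCONJ

universe u

open Cfsg Cfsg.Agent.Lib.Helper23.HNStmt
open scoped Pointwise

theorem main : HallConj.{u} := by
  intro G _ _ S A B hS hAS hBS hcard hcop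
  have : Group.IsSolvable ↥S := hS
  have hA' : Nat.card ↥(A.subgroupOf S) = Nat.card ↥A :=
    Nat.card_congr (Subgroup.subgroupOfEquivOfLe hAS).toEquiv
  have hB' : Nat.card ↥(B.subgroupOf S) = Nat.card ↥A := by
    rw [hcard]
    exact Nat.card_congr (Subgroup.subgroupOfEquivOfLe hBS).toEquiv
  have hidx : (A.subgroupOf S).index = A.relIndex S := rfl
  have hSc : Nat.card ↥S = Nat.card ↥A * A.relIndex S := by
    rw [← hA', ← hidx]
    exact (Subgroup.card_mul_index (A.subgroupOf S)).symm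
  obtain ⟨g, hg⟩ := Cfsg.Agent.Lib.Helper91.Hall.hall_conj (Nat.card ↥A) (A.relIndex S) hSc hcop
    (A.subgroupOf S) (B.subgroupOf S) hA' hB'
  refine ⟨(g : G), g.2, ?_⟩
  ext b
  constructor
  · intro hb
    have hbS : b ∈ S := hBS hb
    have h1 : (⟨b, hbS⟩ : ↥S) ∈ B.subgroupOf S := Subgroup.mem_subgroupOf.mpr hb
    rw [← hg] at h1
    obtain ⟨a, ha, hab⟩ := (Subgroup.mem_smul_pointwise_iff_exists _ _ _).mp h1
    have ha' : (a : G) ∈ A := Subgroup.mem_subgroupOf.mp ha
    refine Subgroup.mem_map.mpr ⟨(a : G), ha', ?_⟩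
    have h2 := congrArg Subtype.val hab
    simpa [MulAut.smul_def, MulAut.conj_apply] using h2
  · intro hb
    obtain ⟨a, ha, rfl⟩ := Subgroup.mem_map.mp hb
    have haS : a ∈ S := hAS ha
    have h1 : (⟨a, haS⟩ : ↥S) ∈ A.subgroupOf S := Subgroup.mem_subgroupOf.mpr ha
    have h2 : MulAut.conj g • (⟨a, haS⟩ : ↥S) ∈ MulAut.conj g • A.subgroupOf S :=
      Subgroup.smul_mem_pointwise_smul _ _ _ h1
    rw [hg] at h2
    have h3 := Subgroup.mem_subgroupOf.mp h2
    simpa [MulAut.smul_def, MulAut.conj_apply] using h3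

end Cfsg.Agent.Lib.Helper33.HNHCONJ
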