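import Mathlib
import Cfsg.Agent.Lib.Helper92.M11Stmt
import Cfsg.Agent.Lib.Helper68.M11Deg
import Cfsg.Agent.Lib.Helper68.M11Syl
import Cfsg.Agent.Lib.Helper68.M11Syl5

/-!
# Simple groups of order 7920, piece DIV: centralizers of non-trivial elements of order prime
to 55 have order dividing 144
-/

set_option autoImplicit false
set_option linter.style.haveILetI false

namespace Cfsg.Agent.Lib.Helper33.M11DIV

open Cfsg

universe u

/-- If the Sylow `r`-subgroups have order `r` and are self-centralizing, then a non-identity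
element whose centralizer has order divisible by `r` has order divisible by `r`. -/
theorem dvd_orderOf_of_dvd_centralizer {G : Type u} [Group G] [Finite G] (r : ℕ) [Fact r.Prime]
    (hQ : ∀ Q : Sylow r G, Nat.card (Q : Subgroup G) = r ∧
      Nat.card (Subgroup.centralizer ((Q : Subgroup G) : Set G)) = r)
    (x : G) (hx : x ≠ 1) (hdvd : r ∣ Nat.card (Subgroup.centralizer ({x} : Set G))) :
    r ∣ orderOf x := by
  have hr : r.Prime := Fact.out
  obtain ⟨z, hz⟩ := exists_prime_orderOf_dvd_card' r hdvd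
  have hzG : orderOf (z : G) = r := by
    rw [← hz]; exact Subgroup.orderOf_coe z
  have hpg : IsPGroup r (Subgroup.zpowers (z : G)) :=
    IsPGroup.of_card (n := 1) (by rw [Nat.card_zpowers, hzG, pow_one])
  obtain ⟨Q, hQle⟩ := hpg.exists_le_sylow
  obtain ⟨hQc, hCQ⟩ := hQ Q
  have hQeq : Subgroup.zpowers (z : G) = (Q : Subgroup G) :=
    Subgroup.eq_of_le_of_card_ge hQle (by rw [hQc, Nat.card_zpowers, hzG])
  have hzx : Commute (z : G) x := by
    have h1 := z.2
    rw [Subgroup.mem_centralizer_iff] at h1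
    exact (h1 x (Set.mem_singleton x)).symm
  have hxC : x ∈ Subgroup.centralizer ((Q : Subgroup G) : Set G) := by
    rw [Subgroup.mem_centralizer_iff]
    intro w hw
    have hw' : w ∈ Subgroup.zpowers (z : G) := by rw [hQeq]; exact hw
    obtain ⟨k, rfl⟩ := Subgroup.mem_zpowers_iff.mp hw'
    exact (hzx.zpow_left k).eq
  have hQC : (Q : Subgroup G) ≤ Subgroup.centralizer ((Q : Subgroup G) : Set G) := by
    intro w hw
    rw [Subgroup.mem_centralizer_iff]
    intro v hv
    have hw' : w ∈ Subgroup.zpowers (z : G) := by rw [hQeq]; exact hw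
    have hv' : v ∈ Subgroup.zpowers (z : G) := by rw [hQeq]; exact hv
    obtain ⟨k, rfl⟩ := Subgroup.mem_zpowers_iff.mp hw'
    obtain ⟨j, rfl⟩ := Subgroup.mem_zpowers_iff.mp hv'
    exact (Commute.zpow_zpow_self (z : G) j k).eq
  have hCeq : (Q : Subgroup G) = Subgroup.centralizer ((Q : Subgroup G) : Set G) :=
    Subgroup.eq_of_le_of_card_ge hQC (by rw [hQc, hCQ])
  have hxQ : x ∈ (Q : Subgroup G) := by rw [hCeq]; exact hxC
  have hxo : orderOf x ∣ r := by
    have := Subgroup.orderOf_dvd_natCard (Q : Subgroup G) hxQ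
    rwa [hQc] at this
  rcases (Nat.dvd_prime hr).mp hxo with h1 | h1
  · exact absurd (orderOf_eq_one_iff.mp h1) hx
  · rw [h1]

theorem main : Cfsg.Agent.Lib.Helper92.M11Stmt.CentDvd.{u} := by
  intro G _ _ _ hG x hx h5 h11
  classical
  have hnc : ¬ IsMulCommutative G :=
    Cfsg.Agent.Lib.Helper17.Sylow.not_comm_of_not_prime (by rw [hG]; norm_num)
  haveI : Finite (IrrCharacter G) := Cfsg.Agent.Lib.CT.Wedderburn.finite_irrCharacter G
  haveI : Fintype (IrrCharacter G) := Fintype.ofFinite _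
  obtain ⟨a₁, a₂, a₃, a₄, θ₀, θ₁, α, β, r, h1, h2, -⟩ :=
    Cfsg.Agent.Lib.Helper68.M11Deg.degrees hG
  haveI : Fact (Nat.Prime 5) := ⟨by norm_num⟩
  haveI : Fact (Nat.Prime 11) := ⟨by norm_num⟩
  have hd5 : ¬ 5 ∣ Nat.card (Subgroup.centralizer ({x} : Set G)) := fun h =>
    h5 (dvd_orderOf_of_dvd_centralizer 5 (fun Q => by
      obtain ⟨q1, q2, -⟩ := Cfsg.Agent.Lib.Helper68.M11Syl5.sylow5 hnc hG a₂ h2 Q
      exact ⟨q1, q2⟩) x hx h)
  have hd11 : ¬ 11 ∣ Nat.card (Subgroup.centralizer ({x} : Set G)) := fun h =>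
    h11 (dvd_orderOf_of_dvd_centralizer 11 (fun Q => by
      obtain ⟨q1, q2, -⟩ := Cfsg.Agent.Lib.Helper68.M11Syl.sylow11 hnc hG Q
      exact ⟨q1, q2⟩) x hx h)
  have hCd : Nat.card (Subgroup.centralizer ({x} : Set G)) ∣ 7920 :=
    hG ▸ Subgroup.card_subgroup_dvd_card _
  have hc5 : Nat.Coprime (Nat.card (Subgroup.centralizer ({x} : Set G))) 5 :=
    ((Nat.Prime.coprime_iff_not_dvd (by norm_num)).mpr hd5).symm
  have hc11 : Nat.Coprime (Nat.card (Subgroup.centralizer ({x} : Set G))) 11 :=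
    ((Nat.Prime.coprime_iff_not_dvd (by norm_num)).mpr hd11).symm
  have hcop : Nat.Coprime (Nat.card (Subgroup.centralizer ({x} : Set G))) (5 * 11) :=
    Nat.Coprime.mul_right hc5 hc11
  exact hcop.dvd_of_dvd_mul_right (by simpa using hCd)

end Cfsg.Agent.Lib.Helper33.M11DIV
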