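import Mathlib
import Cfsg.Agent.Lib.Helper92.M11Stmt

/-!
# Simple groups of order 7920, piece NORM: `|N_G(P₃)| ∣ 144`
-/

set_option autoImplicit false
set_option linter.style.haveILetI false

namespace Cfsg.Agent.Lib.Helper33.M11NORM

universe u

/-- Order of a Sylow subgroup. -/
theorem card_sylow_of {G : Type u} [Group G] [Finite G] {p k m : ℕ} [Fact p.Prime]
    (hN : Nat.card G = p ^ k * m) (hm : ¬ p ∣ m) (P : Sylow p G) :
    Nat.card (P : Subgroup G) = p ^ k := by
  have hp : p.Prime := Fact.out
  have hm0 : m ≠ 0 := by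
    rintro rfl
    exact hm (dvd_zero p)
  rw [Sylow.card_eq_multiplicity, hN, Nat.factorization_mul (pow_ne_zero k hp.ne_zero) hm0,
    Nat.factorization_pow]
  simp [hp.factorization_self, Nat.factorization_eq_zero_of_not_dvd hm]

/-- An element `x` with `x ^ r = 1` (`r` prime) normalizing a subgroup `P` with
`|P| ≢ 1 mod r` centralizes a non-identity element of `P`. -/
theorem exists_fixed {G : Type u} [Group G] [Finite G] (P : Subgroup G) (x : G)
    (hx : x ∈ Subgroup.normalizer (P : Set G)) (r : ℕ) [Fact r.Prime] (hxr : x ^ r = 1)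
    (hr : ¬ Nat.card P ≡ 1 [MOD r]) : ∃ y ∈ P, y ≠ 1 ∧ x * y * x⁻¹ = y := by
  classical
  haveI : Fintype P := Fintype.ofFinite P
  let f : Function.End P := fun y => ⟨x * y * x⁻¹, (Subgroup.mem_normalizer_iff.mp hx y).mp y.2⟩
  have hf1 : ∀ y : P, ((f y : P) : G) = x * y * x⁻¹ := fun y => rfl
  have hpow : ∀ k : ℕ, ∀ y : P, (((f ^ k) y : P) : G) = x ^ k * y * (x ^ k)⁻¹ := by
    intro k
    induction k with
    | zero => intro y; simp [Function.End.one_def]
    | succ k ih =>
      intro y
      have h1 : (f ^ (k + 1)) y = f ((f ^ k) y) := by rw [pow_succ']; rfl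
      rw [h1, hf1, ih, pow_succ']
      group
  have hf : f ^ r ^ 1 = 1 := by
    funext y
    apply Subtype.ext
    rw [pow_one, hpow r y, hxr]
    simp [Function.End.one_def]
  have h := Equiv.Perm.card_fixedPoints_modEq (p := r) (n := 1) hf
  by_contra hcon
  push Not at hcon
  apply hr
  have h1 : Fintype.card (Function.fixedPoints f) = 1 := by
    rw [Fintype.card_eq_one_iff]
    refine ⟨⟨1, ?_⟩, ?_⟩
    · show f 1 = 1
      apply Subtype.ext
      rw [hf1]
      simp
    · rintro ⟨y, hy⟩
      apply Subtype.ext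
      show y = 1
      by_contra hy1
      have hy' : f y = y := hy
      have h2 := congrArg Subtype.val hy'
      rw [hf1] at h2
      exact hcon (y : G) y.2 (fun h3 => hy1 (Subtype.ext h3)) h2
  rw [h1, ← Nat.card_eq_fintype_card] at h
  exact h

theorem main : Cfsg.Agent.Lib.Helper92.M11Stmt.NormDvd.{u} := by
  intro G _ _ hG hC P
  haveI : Fact (Nat.Prime 3) := ⟨by norm_num⟩
  have hP9 : Nat.card (P : Subgroup G) = 9 := by
    have := card_sylow_of (p := 3) (k := 2) (m := 880) (hG.trans (by norm_num)) (by norm_num) P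
    simpa using this
  have hNd : Nat.card (Subgroup.normalizer ((P : Subgroup G) : Set G)) ∣ 7920 :=
    hG ▸ Subgroup.card_subgroup_dvd_card _
  have key : ∀ r : ℕ, r.Prime → (r = 5 ∨ r = 11) →
      ¬ r ∣ Nat.card (Subgroup.normalizer ((P : Subgroup G) : Set G)) := by
    intro r hr hr' hdvd
    haveI : Fact r.Prime := ⟨hr⟩
    obtain ⟨x, hx⟩ := exists_prime_orderOf_dvd_card' r hdvd
    have hxr : (x : G) ^ r = 1 := by
      have := pow_orderOf_eq_one x
      rw [hx] at this
      exact_mod_cast congrArg Subtype.val this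
    have hxo : orderOf (x : G) = r := by
      rw [← hx]; exact Subgroup.orderOf_coe x
    have hmod : ¬ Nat.card (P : Subgroup G) ≡ 1 [MOD r] := by
      rw [hP9]
      rcases hr' with rfl | rfl <;> decide
    obtain ⟨y, hyP, hy1, hxy⟩ := exists_fixed (P : Subgroup G) (x : G) x.2 r hxr hmod
    have hyo : orderOf y ∣ 9 := by
      have := Subgroup.orderOf_dvd_natCard (P : Subgroup G) hyP
      rwa [hP9] at this
    have hy5 : ¬ 5 ∣ orderOf y := fun h => by
      have := h.trans hyo
      omega
    have hy11 : ¬ 11 ∣ orderOf y := fun h => by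
      have := h.trans hyo
      omega
    have h144 := hC y hy1 hy5 hy11
    have hxC : (x : G) ∈ Subgroup.centralizer ({y} : Set G) := by
      rw [Subgroup.mem_centralizer_iff]
      intro z hz
      rw [Set.mem_singleton_iff] at hz
      rw [hz]
      nth_rewrite 1 [← hxy]
      group
    have h3 : r ∣ Nat.card (Subgroup.centralizer ({y} : Set G)) := by
      rw [← hxo]
      exact Subgroup.orderOf_dvd_natCard _ hxC
    have h4 : r ∣ 144 := h3.trans h144
    rcases hr' with rfl | rfl <;> omega
  have h5 := key 5 (by norm_num) (Or.inl rfl)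
  have h11 := key 11 (by norm_num) (Or.inr rfl)
  have hc5 : Nat.Coprime (Nat.card (Subgroup.normalizer ((P : Subgroup G) : Set G))) 5 :=
    ((Nat.Prime.coprime_iff_not_dvd (by norm_num)).mpr h5).symm
  have hc11 : Nat.Coprime (Nat.card (Subgroup.normalizer ((P : Subgroup G) : Set G))) 11 :=
    ((Nat.Prime.coprime_iff_not_dvd (by norm_num)).mpr h11).symm
  have hcop : Nat.Coprime (Nat.card (Subgroup.normalizer ((P : Subgroup G) : Set G))) (5 * 11) :=
    Nat.Coprime.mul_right hc5 hc11
  exact hcop.dvd_of_dvd_mul_right (by simpa using hNd)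

end Cfsg.Agent.Lib.Helper33.M11NORM
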