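import Cfsg.Agent.Lib.Helper33.Omega
import Cfsg.Agent.Lib.Helper2.Frob

set_option autoImplicit false
open scoped commutatorElement

namespace Cfsg.Agent.Lib.Helper33.OmegaFusion

open Cfsg.Agent.Lib.Helper24.Coprime
open Cfsg.Agent.Lib.Helper33.Omega

variable {G : Type*} [Group G]

/-- If `P` controls the fusion of its elements of order `p` (or dividing `4`), then Frobenius'
condition holds. -/
theorem frob_cond_of_fusion [Finite G] {p : ℕ} [Fact p.Prime] (P : Sylow p G)
    (hf : ∀ a ∈ (P : Subgroup G), Om p a → ∀ g : G, g * a * g⁻¹ ∈ (P : Subgroup G) →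
        ∃ x ∈ (P : Subgroup G), g * a * g⁻¹ = x * a * x⁻¹) :
    ∀ Q : Subgroup G, Q ≤ (P : Subgroup G) → ∀ g ∈ Subgroup.normalizer (Q : Set G),
      Nat.Coprime (orderOf g) p → ∀ x ∈ Q, x * g = g * x := by
  intro Q
  induction hn : Nat.card Q using Nat.strong_induction_on generalizing Q with
  | _ n ih =>
    subst hn
    intro hQP g hg hgo
    have hQ : IsPGroup p Q := P.2.to_le hQP
    have hcopQ : (orderOf g).Coprime (Nat.card Q) := by
      obtain ⟨m, hm⟩ := hQ.exists_card_eq
      rw [hm]; exact Nat.Coprime.pow_right m hgo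
    have hA₁Q : Subgroup.zpowers g ≤ Subgroup.normalizer (Q : Set G) :=
      Subgroup.zpowers_le.mpr hg
    have hQ₁le : ⁅Q, Subgroup.zpowers g⁆ ≤ Q := commutator_le_of_le_normalizer hA₁Q
    have hprop : ∀ K : Subgroup G, K ≤ Q → K ≠ Q → g ∈ Subgroup.normalizer (K : Set G) →
        ∀ x ∈ K, x * g = g * x := by
      intro K hK hne hgK
      exact ih _ (card_lt_of_le_of_ne hK hne) K rfl (hK.trans hQP) g hgK hgo
    by_cases hQ₁ : ⁅Q, Subgroup.zpowers g⁆ = Q
    · have hom := om_of_minimal p g Q hQ hg hQ₁ hprop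
      obtain ⟨m, hm⟩ := (Subgroup.isNilpotent_iff_lowerCentralSeries (P : Subgroup G)).mp
        P.2.isNilpotent
      have key : ∀ k, Q ≤ (P : Subgroup G).lowerCentralSeries k := by
        intro k
        induction k with
        | zero => simpa using hQP
        | succ k ihk =>
          rw [Subgroup.lowerCentralSeries_succ]
          calc Q = ⁅Q, Subgroup.zpowers g⁆ := hQ₁.symm
            _ ≤ ⁅(P : Subgroup G).lowerCentralSeries k, (P : Subgroup G)⁆ := by
              rw [Subgroup.commutator_le]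
              intro x hx g' hg'
              have hg'Q := hA₁Q hg'
              have hxi : x⁻¹ ∈ Q := Q.inv_mem hx
              have hy : g' * x⁻¹ * g'⁻¹ ∈ Q :=
                (Subgroup.mem_normalizer_iff.mp hg'Q x⁻¹).mp hxi
              obtain ⟨y, hyP, hye⟩ := hf x⁻¹ (hQP hxi) (hom _ hxi) g' (hQP hy)
              have e : ⁅x, g'⁆ = ⁅x, y⁆ := by
                rw [commutatorElement_def, commutatorElement_def]
                calc x * g' * x⁻¹ * g'⁻¹ = x * (g' * x⁻¹ * g'⁻¹) := by group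
                  _ = x * (y * x⁻¹ * y⁻¹) := by rw [hye]
                  _ = x * y * x⁻¹ * y⁻¹ := by group
              rw [e]
              exact Subgroup.commutator_mem_commutator (ihk hx) hyP
      have hQbot : Q = ⊥ := le_bot_iff.mp (hm ▸ key m)
      intro x hx
      rw [hQbot, Subgroup.mem_bot] at hx
      subst hx
      simp
    · have hcent := hprop _ hQ₁le hQ₁
        (mem_normalizer_commutator hg (Subgroup.le_normalizer (Subgroup.mem_zpowers g)))
      intro x hx
      apply commute_of_commutator_commute hg hcopQ hx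
      exact hcent _ (Subgroup.commutator_mem_commutator hx (Subgroup.mem_zpowers g))

/-- A Sylow subgroup with a normal complement controls its own fusion. -/
theorem fusion_of_complement [Finite G] {p : ℕ} [Fact p.Prime] (P : Sylow p G) (N : Subgroup G)
    [N.Normal] (hc : N.IsComplement' (P : Subgroup G)) (a : G) (ha : a ∈ (P : Subgroup G)) (g : G)
    (hga : g * a * g⁻¹ ∈ (P : Subgroup G)) :
    ∃ x ∈ (P : Subgroup G), g * a * g⁻¹ = x * a * x⁻¹ := by
  obtain ⟨⟨⟨n, hn⟩, ⟨x, hx⟩⟩, hnx⟩ := hc.2 g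
  have hnx' : n * x = g := hnx
  refine ⟨x, hx, ?_⟩
  have hb : x * a * x⁻¹ ∈ (P : Subgroup G) :=
    Subgroup.mul_mem _ (Subgroup.mul_mem _ hx ha) (Subgroup.inv_mem _ hx)
  have e1 : g * a * g⁻¹ = n * (x * a * x⁻¹) * n⁻¹ := by rw [← hnx']; group
  have h1 : n * (x * a * x⁻¹) * n⁻¹ * (x * a * x⁻¹)⁻¹ ∈ N := by
    have e : n * (x * a * x⁻¹) * n⁻¹ * (x * a * x⁻¹)⁻¹ =
        n * ((x * a * x⁻¹) * n⁻¹ * (x * a * x⁻¹)⁻¹) := by group
    rw [e]
    exact N.mul_mem hn ((inferInstance : N.Normal).conj_mem _ (N.inv_mem hn) _)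
  have h2 : n * (x * a * x⁻¹) * n⁻¹ * (x * a * x⁻¹)⁻¹ ∈ (P : Subgroup G) := by
    rw [← e1]
    exact Subgroup.mul_mem _ hga (Subgroup.inv_mem _ hb)
  have h3 : n * (x * a * x⁻¹) * n⁻¹ * (x * a * x⁻¹)⁻¹ = 1 := by
    have hd : Disjoint N (P : Subgroup G) := hc.disjoint
    exact Subgroup.disjoint_def.mp hd h1 h2
  rw [e1]
  exact mul_inv_eq_one.mp h3

end Cfsg.Agent.Lib.Helper33.OmegaFusion
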