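import Mathlib
import Cfsg.Agent.Lib.Helper44.PGStmt
import Cfsg.Agent.Lib.Helper42.SpOrdB

/-!
# S2474 / FO2 (helper33): `RootOrd → RootDvd`
-/

set_option autoImplicit false

namespace Cfsg.Agent.Lib.Helper33.PGFO2

open Matrix Polynomial
open Cfsg.Agent.Lib.Helper44.PGStmt Cfsg.Agent.Lib.Helper40.RecipPoly
open Cfsg.Agent.Lib.Helper42.PslOrdA

universe u

theorem main : RootOrd.{u} → RootDvd.{u} := by
  intro hRO F _ _ κ _ _ Z K hK hZK hfix f hirr hdvd
  have hord := hRO F κ Z K hK hZK hfix f hirr hdvd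
  have hfact : Fact (Irreducible f) := ⟨hirr⟩
  obtain ⟨hfin, hcard⟩ := Cfsg.Agent.Lib.Helper42.SpOrdB.card_adjoinRoot f hirr
  have hft : Fintype (AdjoinRoot f) := Fintype.ofFinite _
  have hcard' : Fintype.card (AdjoinRoot f) = Fintype.card F ^ f.natDegree := by
    rw [← Nat.card_eq_fintype_card]
    exact hcard
  obtain ⟨x, hx⟩ : ∃ x, x = AdjoinRoot.root f := ⟨_, rfl⟩
  rw [← hx] at hord
  have hq : 1 < Fintype.card F := Fintype.one_lt_card
  have hd : 0 < f.natDegree := hirr.natDegree_pos
  have hxK : x ^ K = 1 := (hord K).mpr dvd_rfl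
  have hx0 : x ≠ 0 := by
    intro h
    rw [h, zero_pow hK.ne'] at hxK
    exact zero_ne_one hxK
  refine ⟨?_, ?_⟩
  · apply (hord _).mp
    rw [← hcard']
    exact FiniteField.pow_card_sub_one_eq_one x hx0
  · intro hK2 hfr
    have hf0 : f.coeff 0 ≠ 0 := by
      intro h0
      obtain ⟨g, hg⟩ : (X : F[X]) ∣ f := Polynomial.X_dvd_iff.mpr h0
      have h1 : aeval x (X * g) = 0 := by
        rw [hx, AdjoinRoot.aeval_eq, AdjoinRoot.mk_eq_zero, ← hg]
      rw [map_mul, aeval_X] at h1
      rcases mul_eq_zero.mp h1 with h | h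
      · exact hx0 h
      · rw [hx, AdjoinRoot.aeval_eq, AdjoinRoot.mk_eq_zero] at h
        have hg0 : g ≠ 0 := by
          rintro rfl
          rw [mul_zero] at hg
          exact hirr.ne_zero hg
        have h2 := Polynomial.natDegree_le_of_dvd h hg0
        have h3 : f.natDegree = g.natDegree + 1 := by
          rw [hg, natDegree_X_mul hg0]
        omega
    have hrev : aeval x f.reverse = 0 := by
      have h1 : aeval x (rstar (RingHom.id F) f) = 0 := by
        rw [hx, AdjoinRoot.aeval_eq, AdjoinRoot.mk_eq_zero]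
        exact hfr
      unfold rstar at h1
      rw [Polynomial.map_id, map_mul, aeval_C] at h1
      rcases mul_eq_zero.mp h1 with h | h
      · exfalso
        have h2 : (RingHom.id F (f.coeff 0))⁻¹ ≠ 0 := inv_ne_zero hf0
        exact h2 ((map_eq_zero (algebraMap F (AdjoinRoot f))).mp h)
      · exact h
    have hinv : aeval x⁻¹ f = 0 := by
      let _ : Invertible x⁻¹ := invertibleOfNonzero (inv_ne_zero hx0)
      have h := (Polynomial.eval₂_reverse_eq_zero_iff (algebraMap F (AdjoinRoot f)) x⁻¹ f).mp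
      rw [invOf_eq_inv, inv_inv] at h
      rw [aeval_def]
      apply h
      rw [← aeval_def]
      exact hrev
    obtain ⟨k, hk⟩ := root_eq_pow f x⁻¹ hinv
    rw [← hx] at hk
    have hfrobd : ∀ (s : ℕ) (y : AdjoinRoot f), y ^ (Fintype.card F ^ (f.natDegree * s)) = y := by
      intro s
      induction s with
      | zero =>
        intro y
        simp
      | succ s ih =>
        intro y
        rw [Nat.mul_succ, pow_add, pow_mul, ih, ← hcard']
        exact FiniteField.pow_card y
    have hfrobx : ∀ (j : ℕ) (h : F[X]), (aeval x h) ^ (Fintype.card F ^ j) =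
        aeval (x ^ (Fintype.card F ^ j)) h := by
      intro j h
      rw [← map_pow, pow_card_pow_poly, Polynomial.expand_aeval]
    have hsurj : ∀ y : AdjoinRoot f, ∃ h : F[X], y = aeval x h := by
      intro y
      obtain ⟨h, rfl⟩ := AdjoinRoot.mk_surjective y
      exact ⟨h, by rw [hx, AdjoinRoot.aeval_eq]⟩
    obtain ⟨i, hi⟩ : ∃ i, i = k % f.natDegree := ⟨_, rfl⟩
    have hilt : i < f.natDegree := by
      rw [hi]
      exact Nat.mod_lt _ hd
    have hki : x⁻¹ = x ^ (Fintype.card F ^ i) := by
      rw [hk]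
      have e : k = f.natDegree * (k / f.natDegree) + i := by
        rw [hi]
        exact (Nat.div_add_mod k f.natDegree).symm
      conv_lhs => rw [e, pow_add, pow_mul, hfrobd]
    have hxinv : x ^ (Fintype.card F ^ i) * x = 1 := by
      rw [← hki, inv_mul_cancel₀ hx0]
    have hxi : x ^ (Fintype.card F ^ i + 1) = 1 := by
      rw [pow_succ]
      exact hxinv
    have hi1 : 1 ≤ i := by
      by_contra h0
      have hi0 : i = 0 := by omega
      rw [hi0, pow_zero] at hxi
      have h2 : K ∣ 2 := (hord _).mp hxi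
      have := Nat.le_of_dvd (by norm_num) h2
      omega
    have hx2i : x ^ (Fintype.card F ^ (i + i)) = x := by
      have h3 : (x ^ (Fintype.card F ^ i)) ^ (Fintype.card F ^ i) * x ^ (Fintype.card F ^ i)
          = 1 := by
        rw [← mul_pow, hxinv, one_pow]
      calc x ^ (Fintype.card F ^ (i + i)) = (x ^ (Fintype.card F ^ i)) ^ (Fintype.card F ^ i) := by
            rw [pow_add, pow_mul]
        _ = (x ^ (Fintype.card F ^ i)) ^ (Fintype.card F ^ i)
              * (x ^ (Fintype.card F ^ i) * x) := by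
            rw [hxinv, mul_one]
        _ = x := by rw [← mul_assoc, h3, one_mul]
    have hall : ∀ y : AdjoinRoot f, y ^ (Fintype.card F ^ (i + i)) = y := by
      intro y
      obtain ⟨h, rfl⟩ := hsurj y
      rw [hfrobx, hx2i]
    have hdle : f.natDegree ≤ i + i :=
      Cfsg.Agent.Lib.Helper42.SpOrdB.card_le_of_frob (Fintype.card F) hq (AdjoinRoot f)
        f.natDegree (i + i) (by omega) hcard' hall
    have h2i : i + i = f.natDegree := by
      by_contra hne
      have hlt : f.natDegree < i + i := lt_of_le_of_ne hdle (Ne.symm hne)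
      obtain ⟨t, ht⟩ : ∃ t, i + i = f.natDegree * 1 + t := ⟨i + i - f.natDegree, by omega⟩
      have hall' : ∀ y : AdjoinRoot f, y ^ (Fintype.card F ^ t) = y := by
        intro y
        have h3 := hall y
        rwa [ht, pow_add, pow_mul, hfrobd] at h3
      have := Cfsg.Agent.Lib.Helper42.SpOrdB.card_le_of_frob (Fintype.card F) hq (AdjoinRoot f)
        f.natDegree t (by omega) hcard' hall'
      omega
    have hhalf : f.natDegree / 2 = i := by omega
    refine ⟨⟨i, h2i.symm⟩, ?_⟩
    rw [hhalf]
    exact (hord _).mp hxi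

end Cfsg.Agent.Lib.Helper33.PGFO2
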