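import Mathlib
import Cfsg.Agent.Lib.Helper36.ReeSolvStmt
import Cfsg.Agent.Lib.Helper33.ReeSpC3

/-!
# S2361 / TWOB (helper33): a group with a self-centralizing normal subgroup of order 4
containing all its 2-elements has order 4 or 12.
-/

set_option autoImplicit false

namespace Cfsg.Agent.Lib.Helper33.RSTWOB

open Cfsg.Agent.Lib.Helper36.ReeSolvStmt

universe u

theorem main : TwoB.{u} := by
  classical
  intro G _ _ S T hTS hT4 hSN hself h2
  haveI : Fact (Nat.Prime 2) := ⟨Nat.prime_two⟩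
  have hTcomm : ∀ a b : ↥T, a * b = b * a :=
    IsPGroup.commutative_of_card_eq_prime_sq (p := 2) (by rw [hT4]; norm_num)
  have hconj : ∀ s ∈ S, ∀ t ∈ T, s * t * s⁻¹ ∈ T := fun s hs t ht =>
    (Subgroup.mem_normalizer_iff.mp (hSN hs) t).mp ht
  letI : MulAction ↥S {w : ↥T // w ≠ 1} :=
    { smul := fun s w => ⟨⟨(s : G) * (w.1 : G) * (s : G)⁻¹, hconj s s.2 _ w.1.2⟩, by
        intro h
        apply w.2
        apply Subtype.ext
        have h' : (s : G) * (w.1 : G) * (s : G)⁻¹ = 1 := congrArg Subtype.val h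
        show (w.1 : G) = 1
        have h3 : (w.1 : G) = (s : G)⁻¹ * ((s : G) * (w.1 : G) * (s : G)⁻¹) * s := by group
        rw [h3, h']
        group⟩
      one_smul := fun w => by
        apply Subtype.ext
        apply Subtype.ext
        show ((1 : ↥S) : G) * (w.1 : G) * ((1 : ↥S) : G)⁻¹ = w.1
        simp
      mul_smul := fun s s' w => by
        apply Subtype.ext
        apply Subtype.ext
        show ((s * s' : ↥S) : G) * (w.1 : G) * ((s * s' : ↥S) : G)⁻¹ =
          (s : G) * ((s' : G) * (w.1 : G) * (s' : G)⁻¹) * (s : G)⁻¹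
        rw [Subgroup.coe_mul]
        group }
  have hsmul : ∀ (s : ↥S) (w : {w : ↥T // w ≠ 1}),
      (((s • w : {w : ↥T // w ≠ 1}).1 : ↥T) : G) = (s : G) * (w.1 : G) * (s : G)⁻¹ :=
    fun _ _ => rfl
  obtain ⟨φ, hφ⟩ : ∃ φ : ↥S →* Equiv.Perm {w : ↥T // w ≠ 1},
      ∀ s w, φ s w = s • w := ⟨MulAction.toPermHom ↥S {w : ↥T // w ≠ 1}, fun _ _ => rfl⟩
  have hker : ∀ s : ↥S, s ∈ φ.ker ↔ (s : G) ∈ T := by
    intro s
    rw [MonoidHom.mem_ker]
    constructor
    · intro h
      apply hself s s.2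
      intro t ht
      by_cases ht1 : t = 1
      · rw [ht1, mul_one, one_mul]
      · have hne : (⟨t, ht⟩ : ↥T) ≠ 1 := fun h' => ht1 (congrArg Subtype.val h')
        have h1 : φ s ⟨⟨t, ht⟩, hne⟩ = ⟨⟨t, ht⟩, hne⟩ := by rw [h]; rfl
        rw [hφ] at h1
        have h2' : (s : G) * t * (s : G)⁻¹ = t := by
          have h3 := hsmul s ⟨⟨t, ht⟩, hne⟩
          rw [h1] at h3
          exact h3.symm
        calc (s : G) * t = ((s : G) * t * (s : G)⁻¹) * s := by group
          _ = t * s := by rw [h2']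
    · intro h
      apply Equiv.ext
      intro w
      rw [hφ]
      apply Subtype.ext
      apply Subtype.ext
      rw [hsmul]
      have hc := congrArg Subtype.val (hTcomm ⟨s, h⟩ w.1)
      rw [Subgroup.coe_mul, Subgroup.coe_mul] at hc
      have hc' : (s : G) * (w.1 : G) = (w.1 : G) * (s : G) := hc
      rw [hc']
      show (w.1 : G) * (s : G) * (s : G)⁻¹ = _
      rw [mul_inv_cancel_right]
      rfl
  have hkercard : Nat.card φ.ker = 4 := by
    have h1 : φ.ker = T.subgroupOf S := by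
      ext s
      rw [hker, Subgroup.mem_subgroupOf]
    rw [h1, Nat.card_congr (Subgroup.subgroupOfEquivOfLe hTS).toEquiv, hT4]
  have hX : Nat.card {w : ↥T // w ≠ 1} = 3 := by
    rw [Cfsg.Agent.Lib.Helper33.ReeSpC3.card_ne_one, hT4]
  have hr6 : Nat.card φ.range ∣ 6 := by
    have h1 := Subgroup.card_subgroup_dvd_card φ.range
    rw [Nat.card_perm, hX] at h1
    exact h1
  have hS : Nat.card ↥S = 4 * Nat.card φ.range := by
    rw [← hkercard, ← Subgroup.index_ker, Subgroup.card_mul_index]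
  have hodd : ¬ 2 ∣ Nat.card φ.range := by
    intro h2d
    obtain ⟨y, hy⟩ := exists_prime_orderOf_dvd_card' 2 h2d
    obtain ⟨s, hs⟩ := y.2
    have hs2 : s ^ 2 ∈ φ.ker := by
      rw [MonoidHom.mem_ker, map_pow, hs]
      have h3 := pow_orderOf_eq_one y
      rw [hy] at h3
      have h4 := congrArg Subtype.val h3
      rw [Subgroup.coe_pow, Subgroup.coe_one] at h4
      exact h4
    have hsT : ((s ^ 2 : ↥S) : G) ∈ T := (hker _).mp hs2
    have h8 : (s : G) ^ 2 ^ 3 = 1 := by
      have h4 : (⟨((s ^ 2 : ↥S) : G), hsT⟩ : ↥T) ^ 4 = 1 := by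
        rw [← hT4]
        exact pow_card_eq_one'
      have h4' := congrArg Subtype.val h4
      rw [Subgroup.coe_pow, Subgroup.coe_one] at h4'
      calc (s : G) ^ 2 ^ 3 = ((s : G) ^ 2) ^ 4 := by rw [← pow_mul]; norm_num
        _ = 1 := h4'
    have hsT' : (s : G) ∈ T := h2 s s.2 ⟨3, h8⟩
    have hsk : s ∈ φ.ker := (hker s).mpr hsT'
    have hy1 : y = 1 := by
      apply Subtype.ext
      rw [← hs]
      exact hsk
    rw [hy1, orderOf_one] at hy
    norm_num at hy
  obtain ⟨r, hr⟩ : ∃ r, r = Nat.card φ.range := ⟨_, rfl⟩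
  rw [← hr] at hr6 hS hodd
  have hle : r ≤ 6 := Nat.le_of_dvd (by norm_num) hr6
  interval_cases r
  · simp at hr6
  · left; omega
  · exact absurd (dvd_refl 2) hodd
  · right; omega
  · exact absurd (by decide : 2 ∣ 4) hodd
  · norm_num at hr6
  · exact absurd (by decide : 2 ∣ 6) hodd

end Cfsg.Agent.Lib.Helper33.RSTWOB
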