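import Mathlib
import Cfsg.Agent.Lib.Helper36.ReeSolvStmt

/-!
# S2361 / TWOC (helper33): the case of a self-centralizing normal 2-subgroup.
-/

set_option autoImplicit false

namespace Cfsg.Agent.Lib.Helper33.RSTWOC

open Cfsg.Agent.Lib.Helper36.ReeSolvStmt

universe u

theorem main : TwoC.{u} := by
  classical
  intro hTwoA hTwoB G _ _ hsyl hFour S T hTS hT2 hSN hself
  haveI : Fact (Nat.Prime 2) := ⟨Nat.prime_two⟩
  obtain ⟨P0, hTP⟩ := hT2.exists_le_sylow
  have hP8 := (hsyl P0).1
  have hTdvd : Nat.card ↥T ∣ 2 ^ 3 := by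
    have h8 : (2 : ℕ) ^ 3 = 8 := by norm_num
    rw [h8, ← hP8]
    exact Subgroup.card_dvd_of_le hTP
  have hP0N : (P0 : Subgroup G) ≤ Subgroup.normalizer ((P0 : Subgroup G) : Set G) :=
    Subgroup.le_normalizer
  obtain ⟨k, hk, hTk⟩ := (Nat.dvd_prime_pow Nat.prime_two).mp hTdvd
  have hdone : S ≤ T → ∃ P : Sylow 2 G, S ≤ Subgroup.normalizer ((P : Subgroup G) : Set G) :=
    fun h => ⟨P0, (h.trans hTP).trans hP0N⟩
  interval_cases k
  · apply hdone
    intro s hs
    apply hself s hs
    intro t ht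
    have hT1c : Nat.card ↥T = 1 := hTk.trans (by norm_num)
    have hT1 : T = ⊥ := Subgroup.card_eq_one.mp hT1c
    rw [hT1, Subgroup.mem_bot] at ht
    rw [ht, mul_one, one_mul]
  · apply hdone
    intro s hs
    apply hself s hs
    intro t ht
    by_cases ht1 : t = 1
    · rw [ht1, mul_one, one_mul]
    · have hconj : s * t * s⁻¹ ∈ T := (Subgroup.mem_normalizer_iff.mp (hSN hs) t).mp ht
      have hne : s * t * s⁻¹ ≠ 1 := by
        intro h
        apply ht1
        have h3 : t = s⁻¹ * (s * t * s⁻¹) * s := by group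
        rw [h3, h]
        group
      have hT2c : Nat.card ↥T = 2 := hTk.trans (by norm_num)
      obtain ⟨y, -, hy⟩ := (Nat.card_eq_two_iff' (1 : ↥T)).mp hT2c
      have e1 : (⟨t, ht⟩ : ↥T) = y := hy _ (fun h => ht1 (congrArg Subtype.val h))
      have e2 : (⟨s * t * s⁻¹, hconj⟩ : ↥T) = y := hy _ (fun h => hne (congrArg Subtype.val h))
      have e3 : s * t * s⁻¹ = t := congrArg Subtype.val (e2.trans e1.symm)
      calc s * t = (s * t * s⁻¹) * s := by group
        _ = t * s := by rw [e3]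
  · have hT4 : Nat.card ↥T = 4 := hTk.trans (by norm_num)
    have h2el := hTwoA G (fun P => (hsyl P).2) S T hTS hT2 hSN hself
    rcases hTwoB G S T hTS hT4 hSN hself h2el with hS | hS
    · apply hdone
      have hTS' : T = S := Subgroup.eq_of_le_of_card_ge hTS (by rw [hT4, hS])
      rw [hTS']
    · haveI : Fact (Nat.Prime 3) := ⟨Nat.prime_three⟩
      obtain ⟨c', hc'⟩ := exists_prime_orderOf_dvd_card' (G := ↥S) 3 (by rw [hS]; norm_num)
      have hc3 : orderOf (c' : G) = 3 := by
        rw [Subgroup.orderOf_coe]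
        exact hc'
      obtain ⟨P, hVP, hcP⟩ := hFour T (c' : G) hT4 hc3 (hSN c'.2)
      refine ⟨P, ?_⟩
      have hK : T ⊔ Subgroup.zpowers (c' : G) ≤
          Subgroup.normalizer ((P : Subgroup G) : Set G) :=
        sup_le (hVP.trans Subgroup.le_normalizer) ((Subgroup.zpowers_le).mpr hcP)
      have hKS : T ⊔ Subgroup.zpowers (c' : G) ≤ S :=
        sup_le hTS ((Subgroup.zpowers_le).mpr c'.2)
      have h12 : 12 ∣ Nat.card ↥(T ⊔ Subgroup.zpowers (c' : G)) := by
        have h4 : 4 ∣ Nat.card ↥(T ⊔ Subgroup.zpowers (c' : G)) := by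
          rw [← hT4]
          exact Subgroup.card_dvd_of_le le_sup_left
        have h3 : 3 ∣ Nat.card ↥(T ⊔ Subgroup.zpowers (c' : G)) := by
          rw [← hc3]
          exact Subgroup.orderOf_dvd_natCard _
            ((le_sup_right : Subgroup.zpowers (c' : G) ≤ T ⊔ Subgroup.zpowers (c' : G))
              (Subgroup.mem_zpowers _))
        exact Nat.Coprime.mul_dvd_of_dvd_of_dvd (by norm_num : Nat.Coprime 4 3) h4 h3
      have hKeq : T ⊔ Subgroup.zpowers (c' : G) = S := by
        apply Subgroup.eq_of_le_of_card_ge hKS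
        rw [hS]
        exact Nat.le_of_dvd Nat.card_pos h12
      rw [← hKeq]
      exact hK
  · have hT8 : Nat.card ↥T = 8 := hTk.trans (by norm_num)
    have hTP0 : T = (P0 : Subgroup G) := Subgroup.eq_of_le_of_card_ge hTP (by rw [hT8, hP8])
    exact ⟨P0, by rw [← hTP0]; exact hSN⟩

end Cfsg.Agent.Lib.Helper33.RSTWOC
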