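import Mathlib
import Cfsg.Agent.Lib.Helper18.ReeMultStmt

/-!
# S2113, piece SQFORM (second seat): a biadditive map on a field of characteristic 3 that is
invariant under simultaneous scaling by the nonzero squares is trivial.
-/

set_option autoImplicit false

namespace Cfsg.Agent.Lib.Helper33.ReeMultSQFORM

universe v w

theorem main : Cfsg.Agent.Lib.Helper18.ReeMultStmt.SQFORM.{v, w} := by
  intro K _ M _ B h3 hex hl hr hinv
  obtain ⟨w, hw0, hw8⟩ := hex
  have hm1 : w ^ 2 - 1 ≠ 0 := by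
    intro h
    apply hw8
    have : w ^ 2 = 1 := by linear_combination h
    calc w ^ 8 = (w ^ 2) ^ 4 := by ring
      _ = 1 := by rw [this]; ring
  have hp1 : w ^ 2 + 1 ≠ 0 := by
    intro h
    apply hw8
    have : w ^ 2 = -1 := by linear_combination h
    calc w ^ 8 = (w ^ 2) ^ 4 := by ring
      _ = 1 := by rw [this]; ring
  set m₀ : K := ((w ^ 2 - 1) / w) ^ 2 with hm₀
  have hm₀0 : m₀ ≠ 0 := pow_ne_zero 2 (div_ne_zero hm1 hw0)
  have hn₀ : ((w ^ 2 + 1) / w) ^ 2 = 1 + m₀ := by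
    rw [hm₀]
    field_simp
    linear_combination w ^ 2 * h3
  have hm₀1 : m₀ ≠ 1 := by
    intro h
    apply hw8
    rw [hm₀] at h
    field_simp at h
    have h4 : w ^ 4 = -1 := by linear_combination h + w ^ 2 * h3
    calc w ^ 8 = (w ^ 4) ^ 2 := by ring
      _ = 1 := by rw [h4]; ring
  have key : ∀ a b, B a (m₀ * b + m₀⁻¹ * b + b) = 1 := by
    intro a b
    have e1 : B ((1 + m₀) * a) ((1 + m₀) * b) = B a b := by
      rw [← hn₀]
      exact hinv _ a b (div_ne_zero hp1 hw0)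
    have e2 : B (m₀ * a) (m₀ * b) = B a b := hinv _ a b (div_ne_zero hm1 hw0)
    have e3 : B (m₀ * a) b = B a (m₀⁻¹ * b) := by
      have := hinv _ a (m₀⁻¹ * b) (div_ne_zero hm1 hw0)
      rw [← hm₀, mul_inv_cancel_left₀ hm₀0] at this
      exact this
    have e4 : (1 + m₀) * a = a + m₀ * a := by ring
    have e5 : (1 + m₀) * b = b + m₀ * b := by ring
    rw [e4, e5, hl, hr, hr, e2, e3] at e1
    rw [hr, hr]
    have e6 : B a b * (B a (m₀ * b) * B a (m₀⁻¹ * b) * B a b) = B a b * 1 := by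
      rw [mul_one]
      calc B a b * (B a (m₀ * b) * B a (m₀⁻¹ * b) * B a b)
          = B a b * B a (m₀ * b) * (B a (m₀⁻¹ * b) * B a b) := by group
        _ = B a b := e1
    exact mul_left_cancel e6
  intro a b
  have hc0 : m₀ + m₀⁻¹ + 1 ≠ 0 := by
    intro h
    have h5 : (m₀ - 1) ^ 2 = 0 := by
      have : (m₀ - 1) ^ 2 = m₀ * (m₀ + m₀⁻¹ + 1) - m₀ * 3 := by
        field_simp
        ring
      rw [this, h, h3]
      ring
    exact hm₀1 (by
      have := pow_eq_zero_iff (two_ne_zero) |>.mp h5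
      linear_combination this)
  have := key a (b / (m₀ + m₀⁻¹ + 1))
  have e7 : m₀ * (b / (m₀ + m₀⁻¹ + 1)) + m₀⁻¹ * (b / (m₀ + m₀⁻¹ + 1)) + b / (m₀ + m₀⁻¹ + 1) = b := by
    have e8 : m₀ * (b / (m₀ + m₀⁻¹ + 1)) + m₀⁻¹ * (b / (m₀ + m₀⁻¹ + 1)) + b / (m₀ + m₀⁻¹ + 1) =
        (m₀ + m₀⁻¹ + 1) * (b / (m₀ + m₀⁻¹ + 1)) := by ring
    rw [e8, mul_div_cancel₀ _ hc0]
  rw [e7] at this
  exact this

end Cfsg.Agent.Lib.Helper33.ReeMultSQFORM
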